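import Mathlib
import Cfsg.Agent.Lib.H1.StSLj
import Cfsg.Agent.Lib.H12.CardSL

set_option autoImplicit false

/-!
# Six elements satisfying the Steinberg relations of `SL₃(3)` (helper28)

Six elements of order three of a group, commuting and multiplying like the root elements `e_ab` of `SL₃(3)`,
generate a homomorphic image of the Steinberg group `St₃(𝔽₃) ≅ SL₃(3)`, a group of order `5616`.
-/

namespace Cfsg.Agent.Lib.H28.TitsM

open Cfsg.Agent.Lib.H1.StSL

variable {G : Type*} [Group G]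

/-- powers of a commutator which commutes with both elements -/
theorem comm_pow_pow {x y z : G} (h : x * y * x⁻¹ * y⁻¹ = z) (hzx : Commute z x) (hzy : Commute z y) (m n : ℕ) :
    x ^ m * y ^ n * (x ^ m)⁻¹ * (y ^ n)⁻¹ = z ^ (m * n) := by
  have h1 : x * y * x⁻¹ = z * y := by
    rw [← h]; group
  have h2 : x * y ^ n * x⁻¹ = z ^ n * y ^ n := by
    rw [← conj_pow, h1, hzy.mul_pow]
  have h3 : ∀ m : ℕ, x ^ m * y ^ n * (x ^ m)⁻¹ = z ^ (m * n) * y ^ n := by
    intro m
    induction m with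
    | zero => simp
    | succ m ih =>
      have e : x ^ (m + 1) * y ^ n * (x ^ (m + 1))⁻¹ = x * (x ^ m * y ^ n * (x ^ m)⁻¹) * x⁻¹ := by
        rw [pow_succ']; group
      have hzx' : Commute (z ^ (m * n)) x := hzx.pow_left _
      rw [e, ih]
      calc x * (z ^ (m * n) * y ^ n) * x⁻¹ = (x * z ^ (m * n)) * y ^ n * x⁻¹ := by group
        _ = (z ^ (m * n) * x) * y ^ n * x⁻¹ := by rw [hzx'.eq]
        _ = z ^ (m * n) * (x * y ^ n * x⁻¹) := by group
        _ = z ^ (m * n) * (z ^ n * y ^ n) := by rw [h2]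
        _ = z ^ ((m + 1) * n) * y ^ n := by rw [← mul_assoc, ← pow_add, Nat.succ_mul]
  rw [h3 m, mul_inv_cancel_right]

/-- the homomorphism from the Steinberg group -/
theorem exists_hom_St (y : Fin 3 → Fin 3 → G) (h3 : ∀ a b, a ≠ b → y a b ^ 3 = 1)
    (hcomm : ∀ a b c d, a ≠ b → c ≠ d → a ≠ d → b ≠ c → Commute (y a b) (y c d))
    (hst : ∀ a b c, a ≠ b → b ≠ c → a ≠ c → y a b * y b c * (y a b)⁻¹ * (y b c)⁻¹ = y a c) :
    ∃ f : St (ZMod 3) 3 →* G, ∀ (a : Idx 3) (t : ZMod 3), f (PresentedGroup.of (a, t)) = y a.1.1 a.1.2 ^ t.val := by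
  let g : Idx 3 × ZMod 3 → G := fun p => y p.1.1.1 p.1.1.2 ^ p.2.val
  have hpow : ∀ (a : Idx 3) (m n : ℕ), m % 3 = n % 3 → y a.1.1 a.1.2 ^ m = y a.1.1 a.1.2 ^ n := by
    intro a m n hmn
    have hd : orderOf (y a.1.1 a.1.2) ∣ 3 := orderOf_dvd_of_pow_eq_one (h3 _ _ a.2)
    rw [← pow_mod_orderOf, ← pow_mod_orderOf (n := n)]
    congr 1
    have h1 : m % orderOf (y a.1.1 a.1.2) = (m % 3) % orderOf (y a.1.1 a.1.2) := (Nat.mod_mod_of_dvd m hd).symm
    have h2 : n % orderOf (y a.1.1 a.1.2) = (n % 3) % orderOf (y a.1.1 a.1.2) := (Nat.mod_mod_of_dvd n hd).symm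
    rw [h1, h2, hmn]
  have hrel : ∀ r ∈ rels (ZMod 3) 3, FreeGroup.lift g r = 1 := by
    intro r hr
    rcases hr with (⟨a, t, u, rfl⟩ | ⟨a, b, t, u, had, hbc, rfl⟩) | ⟨a, b, hac, t, u, hab, rfl⟩
    · simp only [map_mul, map_inv, FreeGroup.lift_apply_of, g]
      rw [← pow_add, mul_inv_eq_one]
      apply hpow
      rw [ZMod.val_add, Nat.mod_mod]
    · simp only [map_mul, map_inv, FreeGroup.lift_apply_of, g]
      have hc : Commute (y a.1.1 a.1.2 ^ t.val) (y b.1.1 b.1.2 ^ u.val) :=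
        (hcomm _ _ _ _ a.2 b.2 had hbc).pow_pow _ _
      rw [hc.eq]
      group
    · simp only [map_mul, map_inv, FreeGroup.lift_apply_of, g]
      have hbc : a.1.2 ≠ b.1.2 := by rw [hab]; exact b.2
      have hz1 : Commute (y a.1.1 b.1.2) (y a.1.1 a.1.2) := hcomm _ _ _ _ hac a.2 a.2 hac.symm
      have hz2 : Commute (y a.1.1 b.1.2) (y a.1.2 b.1.2) := hcomm _ _ _ _ hac hbc hac hbc.symm
      have hs := hst a.1.1 a.1.2 b.1.2 a.2 hbc hac
      have key := comm_pow_pow hs hz1 hz2 t.val u.val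
      rw [mul_inv_eq_one]
      have e : y b.1.1 b.1.2 = y a.1.2 b.1.2 := by rw [hab]
      rw [e, key]
      apply hpow ⟨(a.1.1, b.1.2), hac⟩
      rw [ZMod.val_mul, Nat.mod_mod]
  refine ⟨PresentedGroup.toGroup hrel, ?_⟩
  intro a t
  exact PresentedGroup.toGroup.of hrel

/-- the order of the Steinberg group `St₃(𝔽₃)` -/
theorem card_St3 : Finite (St (ZMod 3) 3) ∧ Nat.card (St (ZMod 3) 3) = 5616 := by
  obtain ⟨e, -⟩ := exists_mulEquiv (K := ZMod 3) (n := 3) le_rfl
  have hfin : Finite (St (ZMod 3) 3) := Finite.of_equiv _ e.symm.toEquiv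
  refine ⟨hfin, ?_⟩
  rw [Nat.card_congr e.toEquiv]
  have h := Cfsg.Agent.Lib.H12.card_SL_mul (F := ZMod 3) 3 (by norm_num)
  rw [ZMod.card, Fin.prod_univ_three] at h
  simp only [Fin.val_zero, Fin.val_one, Fin.val_two] at h
  norm_num at h
  rw [Nat.card_eq_fintype_card]
  omega

/-- six elements with the Steinberg relations -/
structure St3 (e01 e12 e02 e20 e21 e10 : G) : Prop where
  c01 : e01 ^ 3 = 1
  c12 : e12 ^ 3 = 1
  c02 : e02 ^ 3 = 1
  c20 : e20 ^ 3 = 1
  c21 : e21 ^ 3 = 1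
  c10 : e10 ^ 3 = 1
  k01_02 : e01 * e02 = e02 * e01
  k01_21 : e01 * e21 = e21 * e01
  k02_12 : e02 * e12 = e12 * e02
  k10_12 : e10 * e12 = e12 * e10
  k10_20 : e10 * e20 = e20 * e10
  k20_21 : e20 * e21 = e21 * e20
  s01_12 : e01 * e12 * e01⁻¹ * e12⁻¹ = e02
  s02_21 : e02 * e21 * e02⁻¹ * e21⁻¹ = e01
  s10_02 : e10 * e02 * e10⁻¹ * e02⁻¹ = e12
  s12_20 : e12 * e20 * e12⁻¹ * e20⁻¹ = e10
  s20_01 : e20 * e01 * e20⁻¹ * e01⁻¹ = e21
  s21_10 : e21 * e10 * e21⁻¹ * e10⁻¹ = e20

/-- the six elements as a function of the position -/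
def stY (e01 e12 e02 e20 e21 e10 : G) (a b : Fin 3) : G :=
  match a.val, b.val with
  | 0, 1 => e01
  | 1, 2 => e12
  | 0, 2 => e02
  | 2, 0 => e20
  | 2, 1 => e21
  | 1, 0 => e10
  | _, _ => 1

/-- six elements with the Steinberg relations generate a quotient of `St₃(𝔽₃)` -/
theorem St3.exists_hom {e01 e12 e02 e20 e21 e10 : G} (h : St3 e01 e12 e02 e20 e21 e10) :
    ∃ f : St (ZMod 3) 3 →* G, f.range = Subgroup.closure {e01, e12, e02, e20, e21, e10} := by
  obtain ⟨f, hf⟩ := exists_hom_St (stY e01 e12 e02 e20 e21 e10)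
    (by
      intro a b hab
      fin_cases a <;> fin_cases b <;> first
        | exact absurd rfl hab
        | exact h.c01 | exact h.c12 | exact h.c02 | exact h.c20 | exact h.c21 | exact h.c10)
    (by
      intro a b c d hab hcd had hbc
      fin_cases a <;> fin_cases b <;> fin_cases c <;> fin_cases d <;> first
        | exact absurd rfl hab | exact absurd rfl hcd | exact absurd rfl had | exact absurd rfl hbc
        | exact Commute.refl _
        | exact h.k01_02 | exact h.k01_02.symm | exact h.k01_21 | exact h.k01_21.symm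
        | exact h.k02_12 | exact h.k02_12.symm | exact h.k10_12 | exact h.k10_12.symm
        | exact h.k10_20 | exact h.k10_20.symm | exact h.k20_21 | exact h.k20_21.symm)
    (by
      intro a b c hab hbc hac
      fin_cases a <;> fin_cases b <;> fin_cases c <;> first
        | exact absurd rfl hab | exact absurd rfl hbc | exact absurd rfl hac
        | exact h.s01_12 | exact h.s02_21 | exact h.s10_02 | exact h.s12_20 | exact h.s20_01 | exact h.s21_10)
  refine ⟨f, ?_⟩
  apply le_antisymm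
  · rw [MonoidHom.range_eq_map, ← PresentedGroup.closure_range_of, MonoidHom.map_closure, Subgroup.closure_le]
    rintro _ ⟨_, ⟨⟨a, t⟩, rfl⟩, rfl⟩
    rw [hf]
    apply Subgroup.pow_mem
    obtain ⟨⟨a1, a2⟩, ha⟩ := a
    apply Subgroup.subset_closure
    fin_cases a1 <;> fin_cases a2 <;> first
      | exact absurd rfl ha
      | simp [stY]
  · rw [Subgroup.closure_le]
    have key : ∀ (a b : Fin 3) (hab : a ≠ b), stY e01 e12 e02 e20 e21 e10 a b ∈ f.range := by
      intro a b hab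
      refine ⟨PresentedGroup.of (⟨(a, b), hab⟩, 1), ?_⟩
      rw [hf]
      show stY e01 e12 e02 e20 e21 e10 a b ^ (1 : ZMod 3).val = _
      rw [show (1 : ZMod 3).val = 1 from rfl, pow_one]
    intro g hg
    simp only [Set.mem_insert_iff, Set.mem_singleton_iff] at hg
    rcases hg with rfl | rfl | rfl | rfl | rfl | rfl
    · exact key 0 1 (by decide)
    · exact key 1 2 (by decide)
    · exact key 0 2 (by decide)
    · exact key 2 0 (by decide)
    · exact key 2 1 (by decide)
    · exact key 1 0 (by decide)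

/-- six elements with the Steinberg relations generate a group of order at most `5616` -/
theorem St3.card_le {e01 e12 e02 e20 e21 e10 : G} (h : St3 e01 e12 e02 e20 e21 e10) :
    Finite (Subgroup.closure ({e01, e12, e02, e20, e21, e10} : Set G)) ∧
      Nat.card (Subgroup.closure ({e01, e12, e02, e20, e21, e10} : Set G)) ≤ 5616 := by
  obtain ⟨f, hf⟩ := h.exists_hom
  obtain ⟨hfin, hcard⟩ := card_St3
  rw [← hf]
  have hsurj : Function.Surjective f.rangeRestrict := f.rangeRestrict_surjective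
  refine ⟨Finite.of_surjective _ hsurj, ?_⟩
  rw [← hcard]
  exact Nat.card_le_card_of_surjective _ hsurj

end Cfsg.Agent.Lib.H28.TitsM
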