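import Cfsg.Agent.Lib.H28.TitsM.Cert.Run
import Cfsg.Agent.Lib.H28.TitsM.Cert.Rows
import Cfsg.Agent.Lib.H28.TitsM.Steinberg
import Cfsg.Agent.Lib.H28.HeM.CertGlue

set_option autoImplicit false
set_option maxRecDepth 100000

/-!
# A group on seven generators with the relators `relL` has order at most `17971200` (helper28)

The first six generators satisfy the Steinberg relations of `SL₃(3)` and so generate a subgroup of order at most
`5616`; a certified coset enumeration shows that it has index at most `3200`.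
-/

namespace Cfsg.Agent.Lib.H28.TitsM

open Cfsg.Agent.Lib.H17.CosetCert Cfsg.Agent.Lib.H28.CosetCertD Cfsg.Agent.Lib.H28.HeM

variable {G : Type*} [Group G]

theorem mem_relL_cube {i : ℕ} (hi : i < 7) : [i, i, i] ∈ relL := by
  unfold relL relWords
  apply List.mem_append_left
  apply List.mem_append_left
  apply List.mem_append_left
  exact List.mem_map.mpr ⟨i, List.mem_range.mpr hi, rfl⟩

theorem mem_relL_st {s : ℕ × ℕ × ℕ} (hs : s ∈ stL) : stWord s.1 s.2.1 s.2.2 ∈ relL := by
  unfold relL relWords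
  apply List.mem_append_left
  apply List.mem_append_right
  exact List.mem_map.mpr ⟨s, hs, rfl⟩

theorem mem_relL_rack {r : List ℕ × ℕ × List ℕ × ℕ} (hr : r ∈ rackL) :
    rackWord r.1 r.2.1 r.2.2.1 r.2.2.2 ∈ relL := by
  unfold relL relWords
  apply List.mem_append_right
  exact List.mem_map.mpr ⟨r, hr, rfl⟩

theorem mem_rackL_extra {r : List ℕ × ℕ × List ℕ × ℕ} (hr : r ∈ extraL) : r ∈ rackL := by
  rw [rackL_eq]
  exact List.mem_append_left _ hr

theorem cube_of_rels (x : ℕ → G) (hrel : ∀ w ∈ relL, ev x w = 1) {i : ℕ} (hi : i < 7) : x i ^ 3 = 1 := by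
  have h := hrel _ (mem_relL_cube hi)
  rw [ev_cons, ev_cons, ev_single, lv_of_lt x hi] at h
  rw [pow_succ, pow_two, mul_assoc]
  exact h

theorem comm_of_rels (x : ℕ → G) (hrel : ∀ w ∈ relL, ev x w = 1) {a b : ℕ} (ha : a < 7) (hb : b < 7)
    (hr : ([a], b, [], b) ∈ extraL) : x a * x b = x b * x a := by
  have h := hrel _ (mem_relL_rack (mem_rackL_extra hr))
  rw [ev_rackWord, ev_single, ev_nil, one_mul, inv_one, mul_one, mul_inv_eq_one, lv_of_lt x ha, lv_of_lt x hb] at h
  have := congrArg (fun g => g * x a) h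
  simpa [mul_assoc] using this

theorem st_of_rels (x : ℕ → G) (hrel : ∀ w ∈ relL, ev x w = 1) {a b c : ℕ} (ha : a < 7) (hb : b < 7) (hc : c < 7)
    (hs : (a, b, c) ∈ stL) : x a * x b * (x a)⁻¹ * (x b)⁻¹ = x c := by
  have h := hrel _ (mem_relL_st hs)
  rw [ev_stWord, lv_of_lt x ha, lv_of_lt x hb, lv_of_lt x hc, mul_inv_eq_one] at h
  exact h

/-- the Steinberg relations from the relators -/
theorem st3_of_rels (x : ℕ → G) (hrel : ∀ w ∈ relL, ev x w = 1) : St3 (x 0) (x 1) (x 2) (x 3) (x 4) (x 5) where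
  c01 := cube_of_rels x hrel (by norm_num)
  c12 := cube_of_rels x hrel (by norm_num)
  c02 := cube_of_rels x hrel (by norm_num)
  c20 := cube_of_rels x hrel (by norm_num)
  c21 := cube_of_rels x hrel (by norm_num)
  c10 := cube_of_rels x hrel (by norm_num)
  k01_02 := comm_of_rels x hrel (by norm_num) (by norm_num) (by decide)
  k01_21 := comm_of_rels x hrel (by norm_num) (by norm_num) (by decide)
  k02_12 := comm_of_rels x hrel (by norm_num) (by norm_num) (by decide)
  k10_12 := (comm_of_rels x hrel (a := 1) (b := 5) (by norm_num) (by norm_num) (by decide)).symm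
  k10_20 := comm_of_rels x hrel (by norm_num) (by norm_num) (by decide)
  k20_21 := comm_of_rels x hrel (by norm_num) (by norm_num) (by decide)
  s01_12 := st_of_rels x hrel (by norm_num) (by norm_num) (by norm_num) (by decide)
  s02_21 := st_of_rels x hrel (by norm_num) (by norm_num) (by norm_num) (by decide)
  s10_02 := st_of_rels x hrel (by norm_num) (by norm_num) (by norm_num) (by decide)
  s12_20 := st_of_rels x hrel (by norm_num) (by norm_num) (by norm_num) (by decide)
  s20_01 := st_of_rels x hrel (by norm_num) (by norm_num) (by norm_num) (by decide)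
  s21_10 := st_of_rels x hrel (by norm_num) (by norm_num) (by norm_num) (by decide)

/-- **the bound** -/
theorem card_le_of_rels (x : ℕ → G) (hgen : Subgroup.closure {g : G | ∃ i < 7, g = x i} = ⊤)
    (hrel : ∀ w ∈ relL, ev x w = 1) : Finite G ∧ Nat.card G ≤ 17971200 := by
  set γ : ℕ → G := lv x with hγ
  have hrel' : ∀ w ∈ relL, (w.map γ).prod = 1 := hrel
  set E : Subgroup G := Subgroup.closure {x 0, x 1, x 2, x 3, x 4, x 5} with hE
  have hsub : ∀ w ∈ subL, (w.map γ).prod ∈ E := by
    intro w hw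
    simp only [subL, List.mem_cons, List.not_mem_nil, or_false] at hw
    rcases hw with rfl | rfl | rfl | rfl | rfl | rfl <;>
      simp only [hγ, List.map_cons, List.map_nil, List.prod_cons, List.prod_nil, mul_one]
    · rw [lv_of_lt x (by norm_num)]; exact Subgroup.subset_closure (by simp)
    · rw [lv_of_lt x (by norm_num)]; exact Subgroup.subset_closure (by simp)
    · rw [lv_of_lt x (by norm_num)]; exact Subgroup.subset_closure (by simp)
    · rw [lv_of_lt x (by norm_num)]; exact Subgroup.subset_closure (by simp)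
    · rw [lv_of_lt x (by norm_num)]; exact Subgroup.subset_closure (by simp)
    · rw [lv_of_lt x (by norm_num)]; exact Subgroup.subset_closure (by simp)
  have hOK := CertGlue.wordsOK Cert.words relL subL Cert.words_spec γ hrel' E hsub
  have hI := Cert.run (fun l => (γ l)⁻¹) (((1 : G) : G ⧸ E)) hOK
  have hgen' : Subgroup.closure {g : G | ∃ l < 14, g = (fun l => (γ l)⁻¹) l} = ⊤ := by
    rw [eq_top_iff, ← hgen, Subgroup.closure_le]
    rintro y ⟨i, hi, rfl⟩
    have h1 : (γ i)⁻¹ ∈ Subgroup.closure {g : G | ∃ l < 14, g = (fun l => (γ l)⁻¹) l} :=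
      Subgroup.subset_closure ⟨i, by omega, rfl⟩
    have h2 := Subgroup.inv_mem _ h1
    rw [inv_inv, hγ, lv_of_lt x hi] at h2
    exact h2
  obtain ⟨hfin, hcard⟩ := card_leD Cert.F 14 16777216 (fun l => (γ l)⁻¹) (((1 : G) : G ⧸ E)) 59814 4824 hI
    Cert.rows Cert.mask Cert.mask_ok Cert.mask_zero Cert.rows_ok hgen'
  rw [Cert.rows_length] at hcard
  obtain ⟨hEfin, hEcard⟩ := (st3_of_rels x hrel).card_le
  rw [← hE] at hEfin hEcard
  have hGfin : Finite G := Finite.of_equiv _ (Subgroup.groupEquivQuotientProdSubgroup (s := E)).symm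
  refine ⟨hGfin, ?_⟩
  have hmul := Subgroup.card_eq_card_quotient_mul_card_subgroup E
  calc Nat.card G = Nat.card (G ⧸ E) * Nat.card E := hmul
    _ ≤ 3200 * 5616 := Nat.mul_le_mul hcard hEcard
    _ = 17971200 := by norm_num

end Cfsg.Agent.Lib.H28.TitsM
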