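import Cfsg.Agent.Lib.H28.TitsM.Tags

set_option autoImplicit false
set_option maxRecDepth 100000

/-!
# The relators of the presentation of the Tits group on seven elements of order three (generated; helper28)
-/

namespace Cfsg.Agent.Lib.H28.TitsM

/-- rack relators, part 0 -/
def rackL0 : List (List ℕ × ℕ × List ℕ × ℕ) := [
  ([2], 1, [], 1),
  ([5], 3, [], 3),
  ([0], 4, [], 4),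
  ([4], 0, [], 0),
  ([3], 5, [], 5),
  ([1], 2, [], 2),
  ([0], 2, [], 2),
  ([1], 5, [], 5),
  ([3], 4, [], 4),
  ([6, 5, 6], 3, [10, 13, 12], 13),
  ([2, 0], 3, [11, 2], 3),
  ([5, 13, 10], 1, [3, 5, 6], 8),
  ([13, 0, 13], 2, [6, 8, 6], 9),
  ([12, 1, 6], 0, [1, 12, 6], 0),
  ([12, 8, 6], 4, [8, 12, 6], 4),
  ([3, 13], 0, [13, 2, 6], 4),
  ([13], 4, [6, 6], 4),
  ([12, 13, 2], 3, [9, 3, 1], 13),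
  ([10, 0], 1, [3, 3, 0], 1),
  ([13, 11, 6], 1, [9, 12, 6], 4),
  ([11], 5, [3, 11], 5),
  ([1, 0, 6], 2, [7, 1, 7], 6),
  ([3, 8], 0, [2, 5], 4),
  ([10, 7], 13, [4, 7, 13], 3),
  ([7, 4, 6], 3, [11, 3, 7], 13),
  ([7, 3], 6, [4, 3, 7], 6),
  ([10, 0], 13, [11, 0, 13], 3),
  ([3], 6, [9, 10, 6], 2),
  ([13, 1, 13], 2, [2, 13, 7], 13),
  ([11, 3], 6, [3, 11], 6),
  ([2, 5, 13], 0, [8, 5, 6], 7),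
  ([5, 1, 6], 5, [1, 5, 6], 5),
  ([3], 1, [0, 12, 1], 0),
  ([1, 6], 2, [7, 1, 0], 6),
  ([3, 13, 12], 0, [9, 13, 4], 1),
  ([9, 7, 5], 6, [7, 9, 5], 6),
  ([12], 6, [5, 5], 6),
  ([6, 12, 3], 0, [10, 13, 0], 5),
  ([8, 13, 2], 5, [9, 8, 6], 12),
  ([11, 10, 0], 6, [0, 10, 4], 6),
  ([13, 8], 13, [0, 13, 1], 6),
  ([7, 4, 5], 6, [4, 7, 5], 6),
  ([1, 10], 0, [12, 10, 1], 0),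
  ([12], 0, [0, 5], 0),
  ([7, 10], 6, [11, 10, 7], 6),
  ([2, 12, 3], 0, [4, 3, 0], 1),
  ([5, 11], 6, [3, 11, 5], 6),
  ([0], 1, [8, 0], 1),
  ([13, 12], 6, [6, 6, 12], 6),
  ([12], 0, [11, 12, 10], 0),
  ([11, 3], 1, [4, 4, 3], 1),
  ([13, 7], 10, [3, 6, 5], 4),
  ([2, 6, 12], 0, [10, 6, 8], 4),
  ([11, 13], 1, [4, 4, 13], 1),
  ([9], 4, [7, 9], 4),
  ([12, 10], 0, [3, 12, 3], 0),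
  ([8, 11, 0], 6, [4, 7, 1], 13),
  ([0, 5, 11], 6, [12, 9, 4], 13),
  ([8, 6, 10], 1, [2, 8, 13], 12),
  ([7, 2, 13], 5, [2, 7, 13], 5),
  ([8, 3], 0, [11, 12], 2),
  ([12, 3], 0, [3, 12], 0),
  ([2, 6, 2], 3, [13, 9, 13], 3),
  ([10, 6], 2, [9, 13, 3], 2),
  ([1], 6, [8, 8], 6),
  ([0, 3, 0], 6, [4, 7, 3], 6),
  ([9, 3, 6], 0, [6, 10, 6], 0),
  ([12, 1], 13, [1, 12], 13),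
  ([6, 7], 13, [7, 6, 0], 6),
  ([12, 10, 13], 0, [10, 12, 13], 0),
  ([9, 11, 6], 1, [13, 5, 6], 11),
  ([13], 4, [3, 6], 11),
  ([7, 3, 13], 0, [9, 7, 13], 11),
  ([12], 2, [0, 0], 8),
  ([5, 13], 3, [10, 5], 13),
  ([2, 1], 3, [1, 2], 3),
  ([1, 3, 13], 0, [9, 1, 13], 11),
  ([11, 10], 1, [12, 11], 1),
  ([4], 2, [1], 7),
  ([12, 1, 13], 7, [1, 12, 13], 7),
  ([11], 13, [7, 11, 0], 13),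
  ([11, 10, 6], 0, [10, 11, 6], 0),
  ([1], 10, [2, 1, 10], 2),
  ([8, 5, 6], 4, [5, 8, 6], 4),
  ([5, 11, 3], 6, [4, 5, 4], 6),
  ([1, 10], 2, [12, 10], 2),
  ([12, 1, 6], 9, [9, 12, 8], 13),
  ([2, 12, 13], 1, [12, 1, 6], 8),
  ([7, 10], 6, [0, 0, 10], 6),
  ([10, 5], 0, [7, 12, 3], 0),
  ([12, 1, 11], 6, [1, 12, 11], 6),
  ([13, 7], 5, [6, 6, 7], 5),
  ([0], 1, [7, 7], 1),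
  ([8, 13, 0], 1, [13, 7, 6], 7),
  ([8, 7, 12], 6, [5, 0, 8], 13),
  ([3, 0], 13, [4, 0, 6], 3),
  ([10, 6, 4], 2, [2, 6, 5], 4),
  ([9, 12, 13], 1, [10, 8, 6], 5),
  ([9, 3, 6], 1, [3, 13, 2], 5),
  ([8, 3], 0, [12, 3, 8], 0),
  ([10, 6], 8, [9, 13, 2], 5),
  ([9, 13], 3, [13, 2, 6], 3),
  ([7, 4, 13], 4, [4, 7, 13], 4),
  ([6, 1], 13, [9, 13, 0], 6),
  ([5, 13], 2, [2, 5, 1], 6),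
  ([1, 10, 13], 0, [6, 7, 13], 12),
  ([4, 12, 13], 4, [12, 4, 6], 11),
  ([1, 10, 1], 0, [12, 10, 8], 0),
  ([9, 11, 6], 2, [7, 2, 11], 6),
  ([2, 5], 0, [11, 3, 0], 1),
  ([8, 2, 6], 1, [9, 8, 13], 8),
  ([4, 0], 6, [2, 4, 6], 2),
  ([8, 2, 11], 6, [4, 0, 1], 13),
  ([2, 12, 3], 6, [10, 9, 5], 6),
  ([1, 0, 5], 6, [12, 7, 1], 13),
  ([12, 10], 0, [10, 12], 0),
  ([0, 6], 2, [2, 0, 13], 2),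
  ([5, 6], 12, [10, 5, 13], 5),
  ([12, 13], 7, [5, 5, 13], 7),
  ([12, 10, 13], 1, [10, 12, 13], 1),
  ([1, 3, 1], 0, [12, 8, 3], 0),
  ([12, 6], 4, [10, 12, 13], 11),
  ([10, 13, 1], 0, [6, 2, 0], 3),
  ([12, 8, 13], 0, [13, 11, 6], 5),
  ([13, 8], 3, [6, 6, 8], 3),
  ([13], 1, [9, 6], 8),
  ([7, 4, 6], 3, [10, 7, 13], 3),
  ([12, 4], 2, [9, 7, 10], 1),
  ([8, 11], 6, [1, 1, 11], 6),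
  ([], 9, [11, 1], 0),
  ([12, 0], 6, [5, 5, 0], 6),
  ([5, 2, 6], 3, [10, 5, 6], 9),
  ([3, 6], 0, [13, 9], 4),
  ([6, 9], 4, [9, 3, 13], 0),
  ([9, 8], 3, [5, 9], 3),
  ([0], 3, [8, 5, 4], 1),
  ([6, 9, 5], 6, [2, 13, 12], 6),
  ([11, 13], 3, [3, 11, 6], 3),
  ([3, 0, 6], 3, [4, 0, 13], 3),
  ([12, 3, 1], 6, [8, 3, 8], 6),
  ([12, 8, 13], 4, [8, 12, 13], 4),
  ([13, 12], 2, [9, 6, 0], 1),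
  ([8, 5], 13, [5, 8], 13),
  ([5, 13, 3], 2, [9, 3, 8], 6),
  ([9, 12, 13], 3, [3, 2, 5], 13),
  ([6, 0, 6], 2, [2, 13, 7], 6),
  ([6, 8, 6], 2, [2, 13, 1], 6),
  ([2, 6], 4, [9, 9, 6], 4),
  ([1, 13], 7, [9, 1, 6], 0),
  ([10], 8, [6, 3, 6], 1),
  ([0, 3, 13], 1, [9, 0, 13], 5),
  ([0, 5, 13], 1, [12, 7, 13], 1),
  ([9, 12, 7], 6, [8, 0, 5], 13),
  ([8], 4, [10, 8, 5], 4),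
  ([3, 8, 13], 9, [9, 10, 1], 13),
  ([10, 4], 6, [3, 4, 3], 6),
  ([9, 7], 3, [3, 2, 0], 3),
  ([9], 3, [0, 9, 7], 3),
  ([13], 7, [2, 2, 6], 0),
  ([13], 0, [6, 6], 0),
  ([3, 8, 4], 6, [8, 4, 5], 6),
  ([2, 0], 5, [11, 2, 1], 3),
  ([12, 8, 11], 13, [8, 12, 11], 13),
  ([8, 10], 0, [11, 0], 1),
  ([12, 9, 13], 1, [3, 12, 13], 12),
  ([8, 10], 0, [2, 11, 7], 1),
  ([9, 13], 1, [3, 13], 12),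
  ([2], 3, [12, 2, 1], 3),
  ([0, 13], 1, [9, 0, 6], 8),
  ([0, 8], 4, [11, 0], 8),
  ([8, 7], 6, [9, 7, 8], 6),
  ([2, 6, 5], 0, [10, 6, 1], 4),
  ([3, 0, 13], 2, [9, 10, 7], 6),
  ([6, 5, 13], 0, [7, 11, 6], 1),
  ([12, 13], 2, [2, 12, 8], 6),
  ([4, 0, 8], 6, [0, 4, 8], 6),
  ([6, 1], 6, [9, 13, 0], 13),
  ([3, 0, 6], 3, [10, 11, 0], 13),
  ([13, 7], 13, [8, 13, 0], 6),
  ([], 12, [7, 5], 0),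
  ([10, 8], 0, [11, 10], 2),
  ([5], 4, [12, 7], 3),
  ([13, 1], 0, [6, 6, 1], 0),
  ([1], 13, [2, 1, 6], 9),
  ([9, 0, 13], 1, [2, 0, 6], 8),
  ([5, 1, 13], 4, [1, 5, 13], 4),
  ([6], 4, [13, 13], 4),
  ([13, 4, 13], 3, [3, 6, 11], 13),
  ([6, 7], 1, [2, 13, 0], 8),
  ([5, 1, 11], 6, [1, 5, 11], 6),
  ([10, 7], 1, [9, 1], 3),
  ([11, 6], 3, [10, 11, 13], 3),
  ([6, 9], 4, [10, 13, 3], 0),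
  ([9, 7], 3, [8, 7, 1], 3),
  ([6, 10], 2, [13, 3, 6], 2),
  ([13, 12, 6], 0, [9, 4, 6], 5),
  ([5], 4, [9, 3, 8], 0),
  ([13, 2, 1], 3, [9, 6, 8], 3),
  ([11, 7], 6, [0, 11, 0], 6),
  ([3, 13], 2, [9, 10], 6),
  ([3, 7, 6], 5, [7, 11, 13], 12),
  ([5, 3], 6, [3, 5], 6),
  ([7, 10], 1, [12, 8], 7),
  ([10, 13], 0, [2, 3, 6], 0),
  ([9, 11, 6], 9, [7, 2, 11], 13),
  ([11, 7, 6], 2, [0, 9, 11], 6),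
  ([2, 6], 0, [3, 13], 11),
  ([11, 6, 9], 3, [2, 10, 0], 13),
  ([13, 8, 13], 2, [9, 6, 1], 6),
  ([1], 4, [10, 1, 7], 3),
  ([7, 1], 6, [1, 7, 6], 2),
  ([4], 2, [2, 4], 2),
  ([0], 3, [10, 0], 3),
  ([3], 0, [0, 3], 0),
  ([6, 3, 0], 13, [10, 13, 7], 13),
  ([1, 10, 1], 0, [7, 1, 7], 3),
  ([2, 6, 0], 1, [3, 13, 11], 5),
  ([9, 13, 8], 0, [3, 13, 5], 4),
  ([2, 6, 1], 0, [3, 13, 0], 3),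
  ([9, 4, 6], 2, [2, 4, 0], 6),
  ([7], 10, [0, 5], 4),
  ([4, 5, 6], 3, [3, 4, 5], 13),
  ([10, 0], 1, [1, 1, 10], 2),
  ([13, 5], 6, [6, 6, 5], 6),
  ([13], 7, [3, 6, 3], 0),
  ([4, 1], 13, [8, 11, 6], 2),
  ([12, 6, 2], 3, [10, 12, 13], 9),
  ([10, 6, 5], 0, [2, 6, 11], 1),
  ([2, 6, 3], 1, [9, 13, 10], 1),
  ([2, 4, 3], 6, [10, 9, 11], 6),
  ([1, 0], 6, [9, 0, 1], 6),
  ([1, 6, 9], 4, [2, 1, 13], 11),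
  ([7], 3, [11, 7], 3),
  ([0], 1, [2, 0], 1),
  ([13], 5, [6, 6], 5),
  ([13, 10], 0, [6, 6, 10], 0),
  ([11], 1, [0, 11, 7], 1),
  ([10, 1], 0, [0, 9], 3),
  ([2], 3, [0, 3, 1], 0),
  ([13, 7, 13], 2, [6, 1, 6], 9),
  ([13, 4, 6], 1, [9, 5, 6], 4),
  ([], 3, [4], 3),
  ([3, 6, 1], 13, [13, 10, 8], 13),
  ([6, 10], 2, [2, 10], 6),
  ([4, 0], 6, [0, 4], 6),
  ([12, 13], 3, [5, 5, 13], 3),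
  ([7, 6], 11, [0, 0, 6], 11),
  ([11], 5, [2, 10, 0], 1),
  ([0, 13], 9, [13, 8, 6], 2),
  ([2, 1], 3, [5, 2], 3),
  ([10, 7], 6, [4, 7, 10], 6),
  ([4, 0, 12], 6, [0, 4, 12], 6),
  ([0], 3, [12, 7], 10),
  ([2], 3, [5, 3, 7], 1),
  ([7, 2, 5], 13, [2, 7, 5], 13),
  ([1], 0, [8, 8], 0),
  ([1, 3], 6, [3, 5, 1], 6),
  ([7], 10, [9, 4, 3], 2),
  ([4, 8, 0], 6, [2, 4, 8], 6),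
  ([8, 0], 13, [2, 0, 8], 13),
  ([2, 5, 13], 1, [8, 5, 6], 8),
  ([3, 7, 6], 3, [7, 11, 13], 3),
  ([11, 7], 6, [4, 7, 4], 6),
  ([3], 1, [7, 2, 5], 0),
  ([1], 6, [2, 1, 6], 2),
  ([4, 3, 0], 6, [0, 11, 3], 6),
  ([13], 5, [10, 2, 6], 1),
  ([10, 4, 6], 1, [4, 10, 6], 1),
  ([13, 1, 6], 4, [7, 13, 2], 5),
  ([9], 4, [2, 3], 0),
  ([6, 7, 6], 2, [2, 13, 0], 6),
  ([1, 10], 2, [4, 12, 8], 0),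
  ([5, 13, 2], 3, [13, 3, 7], 6),
  ([9, 8], 3, [8, 9], 3),
  ([5, 1, 6], 3, [10, 1, 13], 3),
  ([9], 3, [4, 9, 7], 3),
  ([11], 1, [5, 11, 10], 1),
  ([4, 13, 9], 3, [3, 4, 6], 9),
  ([3, 1], 0, [9, 9, 7], 3),
  ([12, 3, 1], 0, [5, 1, 3], 0),
  ([12, 13, 3], 2, [13, 3, 0], 13),
  ([6, 3, 1], 0, [10, 13, 8], 7),
  ([8, 2, 6], 3, [2, 8, 6], 3),
  ([3], 6, [10, 10], 6),
  ([10, 7, 13], 4, [7, 4, 6], 11),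
  ([3], 6, [2, 13, 3], 2),
  ([9, 6, 4], 13, [13, 2, 11], 13),
  ([0, 5, 7], 6, [12, 0, 6], 9),
  ([10, 13, 0], 6, [6, 3, 7], 6),
  ([0, 6], 2, [4, 9, 11], 6),
  ([13], 5, [3, 6], 12),
  ([7, 3, 13], 8, [9, 7, 13], 12),
  ([7, 1], 3, [4, 7], 5),
  ([13, 11], 6, [6, 6, 11], 6),
  ([7, 4, 6], 5, [4, 7, 6], 5),
  ([9, 11, 6], 2, [11, 0, 13], 2),
  ([3, 7], 13, [11, 7, 6], 3),
  ([2, 11], 6, [9, 9, 11], 6),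
  ([2, 11, 13], 1, [11, 7, 6], 8),
  ([8, 6, 0], 6, [0, 13, 8], 13)]

/-- rack relators, part 1 -/
def rackL1 : List (List ℕ × ℕ × List ℕ × ℕ) := [
  ([12], 6, [1, 12, 8], 6),
  ([10, 5, 1], 0, [0, 8, 5], 4),
  ([8, 6], 11, [1, 1, 6], 11),
  ([5, 3], 0, [3, 5], 0),
  ([5, 11, 3], 6, [12, 11, 12], 6),
  ([12, 2, 6], 0, [3, 12, 13], 11),
  ([8, 5, 13], 8, [5, 8, 13], 8),
  ([0], 8, [7, 12], 2),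
  ([12, 8], 6, [9, 12, 13], 2),
  ([3, 1], 0, [4, 2], 3),
  ([9, 13, 5], 0, [3, 13, 1], 4),
  ([], 1, [12], 1),
  ([4, 2, 6], 1, [10, 4, 6], 12),
  ([11, 8, 0], 6, [1, 9, 4], 13),
  ([2, 0], 5, [0, 2], 5),
  ([5, 1], 4, [10, 1], 4),
  ([9, 12, 6], 9, [12, 8, 13], 9),
  ([2, 12], 6, [1, 12, 13], 2),
  ([2, 5], 0, [9, 5, 1], 0),
  ([11, 10], 6, [7, 10, 0], 6),
  ([13], 8, [2, 2, 6], 1),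
  ([1], 3, [3, 1], 3),
  ([0, 13], 7, [9, 0, 6], 0),
  ([2, 6, 3], 2, [6, 10, 6], 2),
  ([4, 12], 6, [12, 10, 4], 6),
  ([13, 3], 1, [9, 6], 5),
  ([7, 1], 13, [0, 0, 1], 13),
  ([2, 1], 3, [3, 0], 8),
  ([12, 3, 1], 6, [1, 5, 3], 6),
  ([3, 1, 13], 4, [2, 12, 6], 7),
  ([5, 3, 0], 6, [3, 5, 0], 6),
  ([13, 7], 6, [8, 13, 0], 13),
  ([12, 1], 0, [1, 12], 0),
  ([5, 13, 10], 0, [3, 5, 6], 7),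
  ([6, 1], 3, [10, 13, 8], 3),
  ([3, 6, 4], 1, [13, 8, 7], 3),
  ([1, 0], 6, [6, 7, 8], 6),
  ([0, 12, 13], 9, [8, 0, 12], 13),
  ([9, 3, 6], 1, [13, 3, 13], 8),
  ([13, 4, 3], 2, [9, 6, 5], 4),
  ([10], 1, [2, 2], 5),
  ([3, 8, 6], 3, [12, 10, 8], 13),
  ([7, 1], 13, [9, 1, 7], 13),
  ([5, 1, 13], 0, [1, 5, 13], 0),
  ([4, 6], 8, [11, 11, 6], 8),
  ([6], 8, [13, 13], 8),
  ([7, 12], 13, [5, 0, 6], 2),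
  ([11, 0, 13], 5, [0, 11, 13], 5),
  ([1, 11, 8], 6, [4, 1, 11], 6),
  ([13, 12], 13, [6, 6, 12], 13),
  ([5, 2, 6], 4, [10, 5, 6], 7),
  ([5, 1], 4, [0, 1, 10], 2),
  ([5, 4], 1, [10, 4], 1),
  ([1], 3, [8, 8], 3),
  ([3, 6, 8], 0, [13, 10, 4], 2),
  ([9, 1, 6], 4, [13, 0, 6], 5),
  ([5, 1], 4, [4, 10], 8),
  ([10, 7], 1, [1, 9], 3),
  ([2, 11], 6, [11, 7, 13], 2),
  ([9, 4, 6], 2, [4, 7, 13], 2),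
  ([2, 6], 1, [3, 13], 5),
  ([12, 9, 13], 4, [3, 12, 13], 7),
  ([11, 0, 6], 3, [4, 3, 0], 13),
  ([8, 13], 8, [9, 8, 6], 1),
  ([1], 10, [11, 8], 3),
  ([10, 5], 6, [11, 5, 4], 6),
  ([13, 8], 6, [2, 6, 0], 13),
  ([7, 8], 6, [2, 8, 7], 6),
  ([6, 1, 6], 2, [2, 13, 8], 6),
  ([5, 1], 0, [12, 12, 1], 0),
  ([5, 11, 6], 3, [12, 11, 12], 13),
  ([10, 6], 8, [2, 6], 12),
  ([1, 13, 9], 3, [3, 9, 5], 13),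
  ([7, 6, 3], 1, [6, 8, 13], 4),
  ([8, 13], 9, [13, 7, 6], 2),
  ([10, 5, 1], 0, [1, 12, 10], 0),
  ([6, 3], 1, [2, 13, 10], 1),
  ([12, 10], 0, [11, 12, 3], 0),
  ([13, 2], 3, [9, 6], 3),
  ([3, 13, 11], 1, [9, 13, 7], 5),
  ([11, 13], 2, [0, 2, 11], 6),
  ([10], 1, [9], 5),
  ([2, 4, 13], 1, [6, 12, 13], 7),
  ([1, 10, 1], 0, [4, 12, 4], 2),
  ([13], 7, [6, 6], 7),
  ([3], 7, [10, 9], 4),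
  ([10, 4, 6], 0, [4, 10, 6], 0),
  ([6, 7, 13], 7, [1, 6, 0], 8),
  ([], 10, [9, 3], 2),
  ([12, 13], 11, [3, 12, 6], 4),
  ([10, 6, 4], 1, [2, 6, 0], 5),
  ([6], 7, [13, 13], 7),
  ([0, 8], 6, [6, 1, 7], 6),
  ([4, 12], 13, [12, 4, 13], 3),
  ([9, 6, 4], 6, [13, 2, 11], 6),
  ([8], 6, [1, 1], 6),
  ([7, 6], 3, [0, 0, 6], 3),
  ([12, 4], 6, [5, 5, 4], 6),
  ([5, 9, 13], 0, [3, 5, 13], 4),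
  ([9, 13], 1, [13, 9, 13], 1),
  ([12, 1], 0, [9, 12, 8], 0),
  ([11, 0, 13], 1, [13, 5, 6], 4),
  ([13], 12, [3, 6], 5),
  ([11, 10], 1, [3, 11, 3], 1),
  ([5, 9], 4, [9, 8, 5], 4),
  ([5, 1], 4, [3, 1, 7], 3),
  ([10, 5], 0, [11, 5], 0),
  ([13, 1], 13, [6, 6, 1], 13),
  ([2, 11, 8], 6, [1, 4, 0], 13),
  ([3], 1, [1, 3], 1),
  ([9, 6], 4, [6, 10, 13], 0),
  ([13, 9], 3, [3, 6], 9),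
  ([11, 8], 6, [4, 4, 8], 6),
  ([4, 3], 2, [2, 7], 10),
  ([4, 0], 1, [5, 4, 3], 2),
  ([9, 4], 6, [4, 7, 6], 2),
  ([4, 0], 1, [2, 4], 1),
  ([9, 13], 3, [2, 6, 9], 3),
  ([0, 13], 8, [9, 0, 6], 1),
  ([0, 8], 4, [4, 1, 3], 0),
  ([5], 0, [4, 10, 5], 0),
  ([11, 12, 3], 6, [12, 11, 10], 6),
  ([6, 3], 0, [2, 13, 10], 0),
  ([10], 2, [3, 3], 2),
  ([4, 6, 10], 2, [6, 10, 1], 13),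
  ([11], 5, [5, 11], 5),
  ([6, 4], 2, [2, 13, 8], 0),
  ([13], 9, [10, 9, 13], 3),
  ([13], 11, [2, 3, 13], 0),
  ([6], 11, [2, 13, 3], 0),
  ([0], 1, [12, 12], 2),
  ([8, 5, 6], 2, [5, 8, 6], 2),
  ([10, 6], 0, [3, 3, 6], 0),
  ([9, 8, 4], 6, [8, 9, 4], 6),
  ([10, 5], 0, [5, 10], 0),
  ([11, 13], 2, [2, 11, 0], 6),
  ([3, 13], 8, [13, 10, 6], 1),
  ([12, 6], 3, [5, 5, 6], 3),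
  ([8, 4, 6], 2, [0, 8, 4], 6),
  ([9, 10, 5], 0, [11, 12, 8], 0),
  ([3, 0], 1, [4, 2, 5], 0),
  ([10, 0], 1, [9, 11], 5),
  ([3, 7], 13, [7, 11, 6], 3),
  ([9, 11, 8], 6, [0, 1, 4], 13),
  ([12, 8], 0, [9, 12], 0),
  ([5, 9, 13], 1, [3, 5, 13], 12),
  ([5, 1], 0, [7, 12, 8], 0),
  ([9, 10, 5], 0, [4, 1, 10], 2),
  ([3], 1, [8, 3], 1),
  ([2, 11, 6], 1, [3, 7, 13], 5),
  ([13, 11, 6], 8, [9, 12, 6], 11),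
  ([3, 6], 0, [9, 10, 13], 0),
  ([13, 8, 3], 2, [9, 6, 1], 10),
  ([7], 5, [8, 12, 4], 2),
  ([0, 1], 6, [2, 1, 0], 6),
  ([9, 13, 1], 4, [3, 13, 7], 5),
  ([0], 3, [4, 0], 3),
  ([11, 0, 13], 4, [0, 11, 13], 4),
  ([2, 5], 6, [9, 9, 5], 6),
  ([12, 8], 0, [1, 12, 1], 0),
  ([11, 0, 6], 3, [3, 4, 0], 13),
  ([2, 11, 13], 1, [7, 11, 6], 8),
  ([12, 4], 2, [8, 7, 10], 1),
  ([11, 5, 7], 6, [5, 7, 10], 6),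
  ([11], 5, [12, 11], 5),
  ([10, 8], 13, [12, 8, 13], 3),
  ([6, 8], 6, [9, 13, 7], 13),
  ([7, 10, 6], 2, [2, 7, 3], 6),
  ([11], 1, [7, 8, 10], 0),
  ([6, 10], 1, [10, 13, 2], 5),
  ([4, 13], 11, [3, 4, 6], 4),
  ([6, 9], 4, [2, 13], 11),
  ([1], 4, [4], 8),
  ([5, 6, 9], 3, [2, 10, 1], 13),
  ([9, 10, 4], 6, [3, 2, 11], 6),
  ([10, 5], 0, [3, 5, 3], 0),
  ([10, 6], 1, [9, 13, 3], 1),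
  ([7], 10, [8, 4, 3], 1),
  ([13, 4, 6], 8, [9, 5, 6], 11),
  ([], 0, [4], 0),
  ([2, 12, 6], 1, [3, 1, 13], 5),
  ([9, 5], 6, [2, 2, 5], 6),
  ([6, 0], 8, [2, 13, 7], 1),
  ([0, 8], 6, [9, 8, 0], 6),
  ([10, 5], 0, [4, 5, 3], 0),
  ([1, 10, 1], 0, [5, 8, 10], 0),
  ([8, 10], 0, [5, 10, 8], 0),
  ([5, 3], 0, [4, 5], 0),
  ([2, 6, 3], 0, [13, 3, 13], 0),
  ([2, 11, 3], 6, [10, 9, 4], 6),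
  ([0, 13], 2, [2, 0], 6),
  ([2, 6], 0, [6, 2, 6], 0),
  ([8], 7, [10, 2, 0], 3),
  ([11, 0], 6, [10, 0, 3], 6),
  ([9, 6, 12], 0, [13, 2, 0], 5),
  ([9], 4, [11, 9], 4),
  ([7, 4], 13, [4, 7], 13),
  ([3], 0, [11, 3], 0),
  ([6, 9], 3, [10, 13, 2], 3),
  ([5, 9, 11], 6, [7, 12, 4], 13),
  ([12], 2, [8, 12], 2),
  ([3, 1, 13], 9, [9, 10, 8], 13),
  ([8, 13, 3], 0, [13, 7, 6], 12),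
  ([1, 7], 6, [13, 0, 8], 6),
  ([4, 12], 2, [1, 9], 4),
  ([5, 1], 0, [0, 10], 8),
  ([13], 9, [3, 6, 2], 3),
  ([2, 6, 1], 0, [9, 13, 8], 7),
  ([3, 1], 13, [1, 12, 6], 3),
  ([12, 4, 3], 6, [11, 12, 11], 6),
  ([8, 7], 6, [6, 0, 1], 6),
  ([10, 5, 0], 6, [5, 10, 0], 6),
  ([0, 10, 13], 1, [6, 1, 13], 11),
  ([12, 11], 6, [5, 5, 11], 6),
  ([10, 0, 13], 5, [0, 11, 6], 12),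
  ([4, 5, 1], 0, [10, 0, 8], 4),
  ([7, 6], 9, [9, 7], 13),
  ([2, 6, 3], 0, [6, 2, 6], 4),
  ([7, 2, 12], 6, [8, 5, 0], 13),
  ([5], 4, [3, 5], 4),
  ([7], 3, [0, 0], 3),
  ([1, 13], 1, [9, 1, 6], 8),
  ([1, 0, 6], 9, [2, 0, 1], 13),
  ([9, 13, 7], 1, [10, 6, 1], 3),
  ([3], 1, [12, 3], 1),
  ([9, 7, 13], 4, [7, 9, 13], 4),
  ([7, 1, 6], 2, [1, 7, 13], 2),
  ([9, 13], 1, [10, 6], 5),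
  ([12, 6, 3], 2, [10, 12, 13], 2),
  ([2, 0, 5], 6, [1, 12, 7], 13),
  ([2, 0], 3, [0, 2], 3),
  ([12, 1], 0, [0, 2, 5], 0),
  ([9, 8, 11], 6, [4, 1, 7], 13),
  ([2, 12, 6], 8, [3, 1, 13], 12),
  ([3], 1, [10, 10], 1),
  ([11, 2, 6], 3, [10, 11, 6], 9),
  ([3, 8], 0, [5, 8, 3], 0),
  ([6, 7, 13], 0, [1, 6, 0], 1),
  ([2, 6, 0], 1, [10, 6, 1], 10),
  ([12, 1, 6], 2, [9, 12, 8], 6),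
  ([6, 12, 13], 0, [4, 0, 6], 1),
  ([5, 3], 0, [12, 12, 3], 0),
  ([12, 8, 6], 5, [8, 12, 6], 5),
  ([0, 6, 3], 2, [10, 2, 4], 6),
  ([8, 7], 3, [9, 12, 3], 0),
  ([8, 13], 2, [7, 8, 0], 6),
  ([7, 2, 6], 0, [9, 7, 13], 7),
  ([13, 12, 6], 7, [9, 4, 6], 12),
  ([13], 7, [9, 6], 0),
  ([11, 7, 13], 5, [3, 7, 6], 12),
  ([0, 12, 7], 6, [5, 0, 12], 6),
  ([9, 12], 6, [12, 8, 6], 2),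
  ([9, 10, 5], 6, [3, 2, 12], 6),
  ([1], 10, [0, 12, 10], 0),
  ([2, 13, 1], 3, [6, 9, 8], 3),
  ([5, 1], 0, [1, 5], 0),
  ([1, 13], 2, [5, 2, 12], 6),
  ([12, 7, 8], 6, [9, 0, 5], 13),
  ([2, 0], 3, [9, 10, 1], 0),
  ([6, 8], 7, [2, 13, 1], 0),
  ([12, 11], 6, [11, 12, 10], 6),
  ([2, 6, 3], 1, [6, 10, 6], 8),
  ([13, 8], 0, [9, 6, 4], 2),
  ([0, 6], 7, [2, 0, 13], 0),
  ([13, 11], 13, [6, 6, 11], 13),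
  ([13, 8, 0], 13, [6, 7, 1], 13),
  ([13, 10, 5], 0, [3, 6, 7], 5),
  ([5, 1, 13], 0, [13, 4, 6], 5),
  ([], 2, [7], 2),
  ([4], 1, [8, 11], 1),
  ([8, 6, 3], 0, [6, 0, 13], 5),
  ([13, 10, 7], 1, [3, 6, 0], 8),
  ([8, 6, 3], 2, [10, 2, 5], 6),
  ([3], 0, [4, 3], 0),
  ([7, 12], 6, [5, 0, 6], 9),
  ([8, 6], 0, [6, 0, 13], 1),
  ([13, 10], 1, [3, 6], 8),
  ([4, 3, 6], 1, [3, 4, 6], 1),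
  ([4, 6], 0, [11, 11, 6], 0),
  ([6], 12, [13, 13], 12),
  ([7, 10], 1, [9, 7], 5),
  ([3, 7], 5, [2, 11, 10], 1),
  ([12], 13, [8, 12, 1], 13),
  ([5, 1], 0, [2, 2, 5], 0),
  ([2, 12, 13], 0, [12, 1, 6], 7),
  ([2, 13], 5, [10, 13, 3], 1),
  ([1, 3], 0, [2, 1], 4),
  ([4, 13, 3], 2, [9, 3, 0], 6),
  ([11, 0, 6], 0, [0, 11, 6], 0),
  ([0, 13], 3, [10, 4, 0], 13),
  ([6], 0, [13, 13], 0),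
  ([8, 10], 6, [5, 10, 8], 6),
  ([12, 10], 0, [9, 4, 3], 1),
  ([5, 1, 4], 6, [1, 5, 4], 6),
  ([5, 1, 6], 4, [1, 5, 6], 4),
  ([7, 13, 9], 3, [3, 9, 4], 13),
  ([0, 8], 4, [2, 8, 3], 0),
  ([], 9, [5, 7], 1),
  ([5, 3, 0], 13, [3, 5, 0], 13),
  ([8, 13, 2], 3, [9, 8, 6], 3)]

/-- rack relators, part 2 -/
def rackL2 : List (List ℕ × ℕ × List ℕ × ℕ) := [
  ([0, 1], 6, [1, 0, 13], 2),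
  ([8, 3], 2, [2, 11], 5),
  ([9], 4, [1, 0, 8], 4),
  ([3, 0], 1, [1, 3], 2),
  ([8], 0, [9, 8], 0),
  ([11], 6, [0, 11, 7], 6),
  ([3, 13, 4], 2, [9, 13, 5], 4),
  ([5, 13], 4, [12, 12, 13], 4),
  ([3], 0, [7, 3], 0),
  ([10, 4, 8], 13, [4, 10, 8], 13),
  ([0, 8, 6], 2, [2, 8, 0], 6),
  ([12, 3], 0, [8, 3, 1], 0),
  ([5, 6], 3, [10, 5, 13], 3),
  ([4], 1, [9, 4, 0], 1),
  ([0, 10], 1, [5, 4], 2),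
  ([12, 10], 0, [5, 10, 5], 0),
  ([12, 1], 13, [3, 1, 13], 3),
  ([0, 3, 0], 6, [10, 7, 10], 6),
  ([5], 6, [12, 12], 6),
  ([13, 3], 2, [2, 10, 6], 2),
  ([10, 6], 0, [6, 9, 13], 4),
  ([5], 13, [10, 5, 6], 3),
  ([2, 6], 0, [13, 2, 6], 0),
  ([5], 0, [1, 2, 5], 0),
  ([5, 11, 6], 3, [4, 5, 4], 13),
  ([], 11, [8, 4], 1),
  ([0], 8, [11, 1, 3], 0),
  ([2], 5, [5, 2], 5),
  ([7, 12], 6, [0, 0, 12], 6),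
  ([3, 7], 5, [11, 7], 5),
  ([6, 8, 6], 2, [9, 6, 7], 13),
  ([8, 2, 6], 0, [2, 8, 6], 0),
  ([5], 4, [0], 10),
  ([12, 3, 6], 0, [3, 12, 6], 0),
  ([0, 10, 6], 2, [2, 0, 3], 6),
  ([13], 12, [6, 6], 12),
  ([3, 7], 1, [12, 2], 3),
  ([10, 8, 13], 4, [12, 8, 6], 11),
  ([1, 10, 1], 6, [3, 8, 3], 6),
  ([11], 5, [8], 10),
  ([2, 6, 2], 3, [3, 13, 2], 3),
  ([7], 3, [9, 3, 1], 0),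
  ([7, 4, 6], 0, [4, 7, 6], 0),
  ([9, 13], 0, [10, 6], 11),
  ([10, 4], 2, [5, 4, 12], 2),
  ([], 13, [9, 13], 9),
  ([7], 1, [0, 0], 1),
  ([0, 6], 3, [3, 11, 0], 13),
  ([7, 2, 6], 3, [2, 7, 6], 3),
  ([3, 7, 5], 6, [7, 5, 11], 6),
  ([6], 7, [10, 13, 10], 0),
  ([13, 1, 6], 4, [9, 7, 6], 12),
  ([8, 5, 6], 0, [5, 8, 6], 0),
  ([11, 7, 8], 6, [1, 2, 4], 13),
  ([10, 13], 1, [2, 3, 6], 1),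
  ([1, 0, 6], 9, [9, 1, 0], 13),
  ([11, 2, 6], 0, [10, 11, 6], 4),
  ([8, 13], 9, [2, 8], 13),
  ([9], 4, [5, 7, 1], 3),
  ([3, 13], 8, [9, 13], 12),
  ([11], 5, [4, 1], 3),
  ([9, 4, 6], 9, [11, 2, 11], 13),
  ([3, 6, 1], 0, [13, 9, 7], 3),
  ([3, 7], 1, [11, 12, 1], 0),
  ([8, 6, 8], 6, [1, 6, 1], 13),
  ([7, 13], 2, [2, 7], 6),
  ([0, 5], 6, [12, 7, 6], 9),
  ([9, 8], 3, [3, 2, 1], 3),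
  ([5, 1], 4, [9, 5, 3], 0),
  ([12, 8, 7], 6, [0, 5, 1], 13),
  ([4, 6], 3, [3, 4], 13),
  ([2, 5, 6], 1, [3, 8, 13], 5),
  ([7], 5, [1, 7, 10], 1),
  ([6, 11], 5, [10, 13, 1], 10),
  ([10, 5, 13], 1, [5, 10, 13], 1),
  ([12, 3], 0, [11, 12], 0),
  ([11, 7, 1], 6, [7, 11, 1], 6),
  ([6, 8], 13, [7, 6, 1], 6),
  ([9, 5, 6], 2, [1, 5, 13], 2),
  ([4, 0, 6], 5, [0, 4, 6], 5),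
  ([4, 12], 2, [9, 1], 4),
  ([13], 0, [9, 6], 7),
  ([6, 0], 1, [2, 13, 12], 2),
  ([2], 5, [4, 8, 5], 4),
  ([13, 5], 0, [6, 6, 5], 0),
  ([1, 7], 3, [2, 7, 1], 3),
  ([9, 4, 6], 9, [4, 7, 13], 9),
  ([13, 10, 0], 13, [3, 6, 7], 13),
  ([3, 6], 2, [13, 10], 2),
  ([6, 4, 6], 3, [10, 13, 11], 13),
  ([2, 0], 5, [8, 0], 5),
  ([9, 11, 6], 2, [4, 2, 4], 6),
  ([6, 12, 8], 0, [2, 13, 0], 5),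
  ([11, 6], 3, [3, 11], 13),
  ([2, 4], 6, [4, 0, 13], 2),
  ([8], 7, [4, 1], 0),
  ([12, 3, 13], 1, [3, 12, 13], 1),
  ([11, 0], 13, [10, 0, 6], 3),
  ([13, 5], 4, [6, 6, 5], 4),
  ([12, 8], 13, [10, 8, 6], 3),
  ([7, 1], 3, [9, 1, 7], 3),
  ([11, 0, 1], 6, [0, 11, 1], 6),
  ([3], 0, [10, 10], 0),
  ([11, 3, 1], 6, [3, 11, 1], 6),
  ([10], 2, [5, 1, 10], 2),
  ([8, 13], 2, [2, 8], 6),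
  ([9, 8, 13], 0, [8, 9, 13], 0),
  ([13, 10, 0], 1, [3, 6, 12], 2),
  ([8], 6, [12, 8, 5], 6),
  ([4], 2, [9, 4], 2),
  ([12, 1, 6], 2, [1, 12, 6], 2),
  ([10, 8, 6], 9, [2, 3, 1], 13),
  ([0, 6, 1], 6, [7, 6, 8], 13),
  ([1, 13], 9, [2, 1], 13),
  ([4, 6, 10], 2, [2, 10, 7], 6),
  ([11, 7], 6, [7, 11], 6),
  ([4, 0], 6, [11, 11, 0], 6),
  ([4, 5], 6, [3, 5, 4], 6),
  ([1, 10], 0, [2, 4, 0], 1),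
  ([0, 13, 3], 1, [13, 8, 6], 11),
  ([11], 1, [2, 8, 10], 0),
  ([4, 5], 6, [5, 4, 3], 6),
  ([9, 12, 6], 2, [1, 2, 12], 6),
  ([2, 0], 3, [10, 9, 7], 3),
  ([12, 9, 13], 0, [10, 12, 6], 11),
  ([7, 13], 1, [9, 7, 6], 8),
  ([3, 13, 7], 1, [9, 13, 1], 3),
  ([1], 0, [7, 1], 0),
  ([6, 10], 1, [2, 13], 12),
  ([0, 10, 0], 6, [10, 7, 4], 6),
  ([4, 8, 6], 2, [11, 1, 4], 13),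
  ([2, 6, 8], 0, [10, 6, 5], 4),
  ([3, 7], 5, [12, 3], 7),
  ([8, 13], 2, [13, 7, 6], 9),
  ([9, 4, 13], 8, [10, 7, 6], 12),
  ([8, 5, 6], 0, [6, 4, 13], 8),
  ([11, 0, 6], 3, [10, 0, 13], 3),
  ([13, 3], 0, [3, 6, 9], 4),
  ([11, 10], 1, [5, 11, 3], 1),
  ([11, 13], 11, [3, 11, 6], 4),
  ([0, 8, 6], 2, [1, 0, 1], 6),
  ([3, 2, 5], 6, [9, 12, 10], 6),
  ([11, 9, 13], 1, [3, 11, 13], 12),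
  ([10], 0, [3, 3], 0),
  ([10, 1, 13], 5, [5, 1, 6], 12),
  ([13, 8], 0, [6, 6, 8], 0),
  ([3, 8], 13, [8, 5, 6], 3),
  ([8, 3], 2, [5, 3, 0], 1),
  ([5, 6, 11], 6, [1, 6, 4], 13),
  ([10, 7], 1, [4, 7, 10], 1),
  ([8, 3], 2, [12, 3], 2),
  ([9, 13], 0, [13, 9, 13], 0),
  ([6, 12, 13], 0, [0, 4, 6], 1),
  ([12, 6, 10], 2, [2, 10, 8], 6),
  ([5, 1], 6, [10, 1, 3], 6),
  ([11, 0, 8], 6, [1, 7, 4], 13),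
  ([7, 4], 6, [4, 7], 6),
  ([6], 1, [13, 13], 1),
  ([13, 5, 6], 7, [9, 11, 6], 12),
  ([5, 9], 4, [0, 11], 5),
  ([11, 12, 3], 6, [3, 11, 12], 6),
  ([13, 10, 1], 0, [3, 6, 8], 7),
  ([2, 11, 6], 3, [10, 9, 4], 13),
  ([0, 13], 2, [13, 8, 6], 9),
  ([2, 6], 0, [10, 6], 4),
  ([0, 10, 0], 6, [7, 11, 10], 6),
  ([8], 6, [9, 8, 13], 2),
  ([8, 4, 1], 6, [11, 8, 4], 6),
  ([2, 5], 0, [5, 8], 0),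
  ([0, 10], 6, [4, 10, 0], 6),
  ([12], 2, [1, 12], 2),
  ([12], 2, [7], 8),
  ([6, 12, 6], 3, [10, 13, 5], 13),
  ([1], 10, [7, 5, 3], 0),
  ([2, 11, 13], 1, [6, 5, 13], 7),
  ([8], 0, [2, 8], 0),
  ([13, 0, 13], 2, [2, 13, 1], 13),
  ([7, 4, 6], 1, [4, 7, 6], 1),
  ([7, 1], 3, [1, 9, 7], 3),
  ([9, 12, 13], 8, [10, 8, 6], 12),
  ([8, 2, 6], 0, [9, 8, 13], 7),
  ([1, 13], 8, [9, 1, 6], 1),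
  ([13, 0], 8, [9, 6, 7], 1),
  ([12, 8, 6], 1, [8, 12, 6], 1),
  ([12, 7, 13], 2, [0, 5, 13], 9),
  ([13], 2, [2], 6),
  ([2, 6, 8], 4, [10, 6, 0], 5),
  ([5, 6, 9], 3, [6, 10, 0], 6),
  ([5, 1, 6], 8, [1, 5, 6], 8),
  ([9, 0, 13], 0, [0, 9, 13], 0),
  ([12, 13], 0, [5, 5, 13], 0),
  ([11, 6, 12], 6, [0, 6, 5], 13),
  ([1], 0, [4], 9),
  ([12, 8, 6], 3, [10, 8, 13], 3),
  ([7, 10, 6], 0, [2, 7, 6], 11),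
  ([8, 4, 1], 6, [1, 11, 6], 9),
  ([11, 1], 6, [4, 4, 1], 6),
  ([10, 0, 6], 4, [9, 11, 13], 7),
  ([12, 1, 13], 5, [1, 12, 13], 5),
  ([11, 3], 1, [5, 11], 1),
  ([], 3, [11], 3),
  ([9, 4, 13], 1, [10, 7, 6], 5),
  ([7, 13, 8], 7, [13, 1, 6], 8),
  ([13], 8, [3, 6, 3], 1),
  ([12, 8], 0, [10, 8, 3], 0),
  ([8, 5], 4, [4, 1, 7], 3),
  ([9, 13, 0], 1, [2, 6, 12], 2),
  ([2, 6], 1, [10, 6], 12),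
  ([12, 3, 13], 8, [3, 12, 13], 8),
  ([12, 1, 6], 2, [2, 12, 13], 2),
  ([9, 4], 6, [7, 4, 6], 2),
  ([11, 13, 3], 2, [9, 3, 7], 6),
  ([4, 5, 3], 6, [3, 4, 5], 6),
  ([5], 0, [11, 5, 3], 0),
  ([], 1, [5], 1),
  ([12, 3, 1], 6, [10, 1, 10], 6),
  ([11, 7], 1, [7, 11], 1),
  ([13], 11, [6, 6], 11),
  ([10, 6, 7], 1, [2, 6, 1], 3),
  ([6, 8], 0, [2, 13, 4], 2),
  ([9, 6], 4, [2, 2, 6], 4),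
  ([3], 7, [9, 10], 0),
  ([12, 10], 6, [10, 12], 6),
  ([6, 2], 3, [13, 13, 2], 3),
  ([11, 3, 13], 0, [3, 11, 13], 0),
  ([13, 0, 6], 0, [1, 13, 12], 2),
  ([7, 5, 6], 2, [8, 7, 5], 6),
  ([11, 7], 1, [3, 7, 10], 1),
  ([12], 2, [5, 0], 1),
  ([2, 4, 13], 1, [0, 4, 6], 8),
  ([5, 9], 4, [4, 0, 1], 3),
  ([12, 1, 6], 11, [1, 12, 6], 11),
  ([9, 6], 4, [3, 6, 10], 0),
  ([11, 12, 3], 6, [10, 12, 11], 6),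
  ([2, 12, 13], 0, [6, 11, 13], 1),
  ([9, 13], 4, [3, 13], 7),
  ([5, 13], 12, [3, 5, 6], 5),
  ([8, 11, 13], 1, [4, 1, 13], 8),
  ([5, 1], 4, [1, 5], 4),
  ([2, 0], 5, [5, 8], 7),
  ([1, 7], 3, [4, 2], 5),
  ([9, 6, 5], 6, [13, 2, 12], 6),
  ([10], 6, [3, 3], 6),
  ([11, 0, 6], 3, [0, 11, 6], 3),
  ([10, 8], 0, [7, 10], 2),
  ([11, 10], 6, [10, 11], 6),
  ([0, 6], 1, [6, 1, 13], 7),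
  ([2], 5, [7, 2, 0], 5),
  ([11, 12], 6, [3, 12, 11], 6),
  ([7], 1, [5, 0], 8),
  ([7], 5, [11, 7, 1], 3),
  ([10, 0], 1, [2, 8, 3], 2),
  ([1, 6, 7], 6, [8, 6, 0], 13),
  ([7, 13], 1, [13, 1, 6], 0),
  ([0, 6], 1, [7, 7, 6], 1),
  ([9, 8, 6], 4, [8, 9, 6], 4),
  ([2, 12], 6, [9, 9, 12], 6),
  ([10], 2, [6, 3, 6], 2),
  ([2, 6, 3], 2, [9, 3, 6], 2),
  ([7, 4, 12], 13, [4, 7, 12], 13),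
  ([1], 3, [2, 10, 7], 1),
  ([4, 5, 3], 6, [12, 4, 12], 6),
  ([9, 5], 6, [5, 1, 6], 2),
  ([5, 3], 0, [7, 12, 10], 0),
  ([10, 6, 0], 1, [2, 6, 11], 5),
  ([11, 7], 13, [3, 7, 13], 3),
  ([2], 5, [12, 2], 5),
  ([3, 0, 13], 4, [2, 4, 6], 7),
  ([12, 7], 6, [5, 5, 7], 6),
  ([13], 4, [10, 9, 13], 0),
  ([7, 6], 3, [4, 3, 7], 13),
  ([11, 12, 6], 3, [12, 11, 13], 3),
  ([10, 5, 6], 1, [5, 10, 6], 1),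
  ([6], 4, [3, 2, 6], 0),
  ([13, 1, 13], 2, [6, 0, 6], 9),
  ([2, 5, 13], 0, [6, 4, 13], 1),
  ([11], 1, [1, 4], 1),
  ([9, 5, 13], 1, [10, 1, 6], 5),
  ([2, 6, 3], 2, [3, 13, 3], 2),
  ([3, 1], 0, [7, 2], 3),
  ([4, 3], 2, [7, 3], 2),
  ([0, 6, 9], 4, [2, 0, 13], 11),
  ([3, 6], 1, [6, 2, 13], 5),
  ([8], 0, [11], 2),
  ([9, 4, 6], 1, [13, 12, 6], 11),
  ([7, 5, 0], 6, [12, 7, 5], 6),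
  ([13, 8, 13], 2, [2, 13, 0], 13),
  ([5], 4, [11, 5], 4),
  ([12, 11], 13, [11, 12, 13], 3),
  ([12, 4, 6], 3, [3, 12, 4], 13),
  ([2, 5], 0, [8, 5], 0),
  ([2, 5, 6], 3, [10, 9, 12], 13),
  ([10, 5], 6, [5, 10], 6),
  ([4, 5, 1], 0, [2, 4, 3], 1),
  ([2, 6, 8], 0, [9, 13, 4], 2),
  ([13, 8], 4, [6, 6, 8], 4),
  ([2, 4, 6], 8, [3, 0, 13], 12),
  ([2, 6, 3], 0, [3, 13, 3], 0),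
  ([13, 2], 3, [3, 6, 9], 3),
  ([2], 3, [4, 2, 0], 3)]

/-- rack relators, part 3 -/
def rackL3 : List (List ℕ × ℕ × List ℕ × ℕ) := [
  ([13, 8, 0], 6, [6, 7, 1], 6),
  ([6, 0, 13], 0, [8, 6, 7], 1),
  ([8, 5, 13], 4, [5, 8, 13], 4),
  ([2, 6, 3], 0, [10, 6, 9], 4),
  ([7], 5, [0, 0], 5),
  ([3, 13, 5], 0, [9, 13, 11], 1),
  ([4, 5, 1], 0, [0, 5, 1], 4),
  ([7, 4, 12], 6, [4, 7, 12], 6),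
  ([10, 5, 1], 0, [11, 2, 0], 5),
  ([9, 11, 6], 2, [2, 11, 7], 6),
  ([9, 1, 4], 6, [11, 8, 0], 13),
  ([2], 5, [3], 8),
  ([3, 7, 6], 3, [4, 10, 7], 13),
  ([2, 6, 3], 1, [13, 3, 13], 1),
  ([0, 12, 0], 6, [12, 0, 12], 6),
  ([2, 6, 3], 2, [10, 6, 10], 2),
  ([5, 4], 1, [12, 4, 3], 1),
  ([12, 3], 6, [3, 12], 6),
  ([9, 13], 0, [3, 13], 4),
  ([6, 10, 0], 1, [2, 13, 1], 10),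
  ([5, 1], 13, [1, 5], 13),
  ([12, 1], 0, [7, 3], 1),
  ([7, 1], 6, [6, 8, 0], 6),
  ([1, 10], 0, [4, 7], 1),
  ([13], 12, [2, 3, 13], 8),
  ([], 0, [2], 0),
  ([0, 10, 6], 1, [2, 0, 6], 5),
  ([3, 13, 1], 0, [9, 13, 0], 3),
  ([8, 5], 4, [5, 8], 4),
  ([8, 7], 13, [6, 0, 1], 13),
  ([4, 5], 6, [11, 11, 5], 6),
  ([10, 8], 0, [12, 8, 10], 0),
  ([11, 10, 0], 6, [7, 10, 7], 6),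
  ([10, 7, 13], 5, [4, 7, 6], 12),
  ([2, 13, 11], 1, [6, 4, 12], 2),
  ([5, 9], 4, [10, 0], 5),
  ([7, 13], 9, [13, 1, 6], 2),
  ([9, 13, 7], 1, [2, 6, 0], 8),
  ([2, 5], 6, [5, 8, 13], 2),
  ([6], 5, [13, 13], 5),
  ([6, 7], 10, [10, 13, 5], 4),
  ([4, 12], 2, [7, 1], 4),
  ([11, 3], 1, [3, 11], 1),
  ([2], 3, [11, 3, 1], 0),
  ([7, 10], 1, [2, 12, 4], 2),
  ([8, 0], 6, [1, 1, 0], 6),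
  ([10], 2, [2, 3], 2),
  ([2, 5, 6], 8, [3, 8, 13], 12),
  ([2, 6, 7], 3, [10, 6, 8], 7),
  ([9, 4], 6, [2, 2, 4], 6),
  ([13], 3, [3, 6], 3),
  ([7, 1], 3, [0, 0, 1], 3),
  ([13, 7], 3, [3, 6, 0], 3),
  ([0, 3, 0], 6, [11, 3, 7], 6),
  ([9, 7], 3, [10, 8], 7),
  ([12, 8], 6, [8, 12], 6),
  ([8, 0, 13], 0, [0, 8, 6], 7),
  ([12, 9, 13], 0, [3, 12, 13], 4),
  ([0, 6, 3], 1, [6, 1, 13], 4),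
  ([9, 11], 6, [2, 2, 11], 6),
  ([10, 0, 13], 5, [11, 0, 6], 12),
  ([8, 3], 2, [9, 10, 0], 1),
  ([6, 1], 6, [13, 13, 1], 6),
  ([9], 3, [7, 10, 1], 0),
  ([1, 13, 2], 5, [9, 1, 6], 12),
  ([5, 11], 6, [11, 5, 3], 6),
  ([9, 1, 13], 1, [2, 1, 6], 8),
  ([7, 4, 1], 6, [8, 11, 0], 13),
  ([4, 0, 6], 2, [0, 4, 6], 2),
  ([10, 7], 1, [8, 9, 8], 3),
  ([12, 1, 6], 4, [1, 12, 6], 4),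
  ([10, 4], 2, [9, 5], 4),
  ([], 11, [2, 10], 0),
  ([13, 2, 5], 13, [9, 6, 12], 13),
  ([2, 12, 13], 1, [1, 12, 6], 8),
  ([13, 5, 6], 0, [9, 11, 6], 5),
  ([6, 2], 3, [10, 13], 9),
  ([8, 2, 11], 6, [0, 4, 1], 13),
  ([3, 13, 0], 1, [9, 13, 11], 5),
  ([], 1, [9], 1),
  ([13, 2], 5, [2, 10, 6], 8),
  ([12, 8], 0, [2, 12, 1], 0),
  ([13, 1, 7], 6, [6, 0, 8], 6),
  ([2, 6, 1], 0, [10, 6, 7], 3),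
  ([9, 12, 6], 2, [5, 2, 5], 6),
  ([12, 13], 2, [8, 2, 12], 6),
  ([3], 0, [2], 4),
  ([12, 6], 5, [5, 5, 6], 5),
  ([2, 6, 2], 3, [10, 6, 9], 3),
  ([6, 8, 6], 0, [13, 0, 13], 1),
  ([7, 13, 8], 0, [13, 1, 6], 1),
  ([2, 5, 3], 6, [10, 9, 12], 6),
  ([13], 11, [10, 2, 6], 0),
  ([13, 3], 2, [9, 3], 6),
  ([4, 13], 5, [3, 4, 6], 12),
  ([1], 4, [2, 4, 12], 2),
  ([12, 8, 11], 6, [8, 12, 11], 6),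
  ([10], 6, [2, 3, 13], 2),
  ([11, 7, 6], 0, [7, 11, 6], 0),
  ([13, 7, 13], 2, [2, 13, 8], 13),
  ([0], 8, [12, 7], 1),
  ([10, 5], 6, [12, 12, 10], 6),
  ([12, 1, 7], 6, [2, 0, 5], 13),
  ([13, 12], 0, [6, 6, 12], 0),
  ([7], 1, [11, 1, 10], 0),
  ([12, 13, 2], 3, [13, 3, 0], 6),
  ([10, 8, 6], 4, [9, 12, 13], 7),
  ([13, 10, 8], 0, [3, 6, 4], 2),
  ([4, 13], 3, [10, 4], 13),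
  ([6, 11, 6], 3, [10, 13, 4], 13),
  ([6, 7], 6, [7, 6, 0], 13),
  ([6, 8, 10], 0, [2, 13, 1], 4),
  ([1, 13, 3], 0, [13, 0, 6], 12),
  ([7], 1, [2, 7], 1),
  ([6, 3], 2, [10, 13], 2),
  ([10, 6, 11], 1, [2, 6, 7], 5),
  ([7, 10], 1, [8, 7], 5),
  ([6, 10], 0, [10, 9, 6], 4),
  ([0], 1, [9, 0], 1),
  ([13, 7], 6, [6, 6, 7], 6),
  ([3], 2, [5, 8, 3], 2),
  ([10, 13], 1, [6, 2], 5),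
  ([12, 3, 13], 0, [3, 12, 13], 0),
  ([9, 13, 8], 0, [2, 6, 4], 2),
  ([8], 0, [12, 2, 5], 0),
  ([12], 2, [2, 12], 2),
  ([13, 11, 10], 1, [3, 6, 1], 4),
  ([3, 0, 6], 3, [0, 4, 13], 3),
  ([12, 8, 6], 3, [5, 3, 8], 13),
  ([2, 0, 12], 6, [0, 2, 12], 6),
  ([13, 11, 7], 1, [9, 6, 1], 4),
  ([13], 8, [6, 6], 8),
  ([12, 13, 3], 2, [9, 3, 1], 6),
  ([13, 8, 13], 2, [6, 7, 6], 9),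
  ([7, 6, 10], 1, [2, 7, 13], 12),
  ([5], 0, [12, 12], 0),
  ([11, 12], 6, [12, 11, 3], 6),
  ([3, 1], 0, [2, 7], 3),
  ([8], 7, [1, 4], 2),
  ([1, 10], 6, [10, 12, 1], 6),
  ([10, 7, 6], 9, [2, 3, 0], 13),
  ([0, 6], 2, [9, 0], 6),
  ([0], 5, [5], 7),
  ([12, 1, 6], 5, [1, 12, 6], 5),
  ([13, 10], 1, [9, 6, 3], 1),
  ([], 8, [11, 1], 4),
  ([11, 10], 1, [10, 11], 1),
  ([3, 7], 1, [9, 9, 8], 3),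
  ([1, 3, 1], 6, [12, 8, 3], 6),
  ([7, 1], 6, [9, 1, 7], 6),
  ([2, 11, 1], 6, [11, 1, 7], 6),
  ([8, 7], 3, [4, 5, 1], 4),
  ([12, 1, 13], 4, [1, 12, 13], 4),
  ([4], 1, [10, 4, 3], 1),
  ([10, 13, 0], 13, [6, 3, 7], 13),
  ([12, 8], 0, [0, 5, 1], 0),
  ([1, 13], 9, [13, 0, 6], 2),
  ([12], 13, [10, 12, 6], 3),
  ([3, 2, 4], 6, [9, 11, 10], 6),
  ([1, 10], 0, [10, 12, 1], 0),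
  ([9, 13], 4, [10, 6, 3], 0),
  ([11, 10, 1], 6, [10, 11, 1], 6),
  ([0, 3, 0], 6, [3, 11, 7], 6),
  ([3, 13], 2, [10, 6, 3], 2),
  ([12, 6], 2, [1, 9, 12], 6),
  ([6, 1, 10], 0, [2, 13, 8], 4),
  ([6, 7, 6], 2, [9, 6, 1], 13),
  ([7], 3, [4, 7], 3),
  ([1, 13], 2, [13, 0, 6], 9),
  ([1, 7], 6, [2, 7, 1], 6),
  ([2, 0], 3, [4, 3, 1], 0),
  ([8, 5], 4, [12, 8, 7], 3),
  ([4, 8, 4], 6, [8, 4, 8], 6),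
  ([6, 7], 6, [1, 6, 0], 13),
  ([9, 5, 6], 1, [5, 1, 13], 8),
  ([2, 1, 6], 0, [1, 2, 6], 0),
  ([9, 12], 6, [8, 12, 6], 2),
  ([13, 8], 7, [9, 6, 1], 0),
  ([0, 6, 10], 2, [2, 0, 10], 6),
  ([8, 5, 11], 6, [5, 8, 11], 6),
  ([3, 7], 1, [1, 2, 1], 3),
  ([10, 1, 13], 4, [5, 1, 6], 11),
  ([5, 9], 4, [8, 10, 4], 2),
  ([1], 3, [4], 5),
  ([10], 6, [9, 6, 10], 2),
  ([8, 10, 13], 0, [6, 0, 13], 12),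
  ([2, 4], 6, [0, 4, 13], 2),
  ([1, 10, 1], 0, [0, 2, 1], 3),
  ([12, 4, 3], 6, [4, 12, 10], 6),
  ([13, 10], 0, [3, 6], 7),
  ([1], 0, [0, 1], 0),
  ([0, 6], 3, [11, 3, 0], 13),
  ([6, 10], 2, [10, 13, 3], 2),
  ([3, 0], 1, [0, 4, 3], 1),
  ([9], 4, [6, 3, 6], 0),
  ([6, 9, 5], 13, [2, 13, 12], 13),
  ([12], 13, [5, 5], 13),
  ([3], 2, [10, 10], 2),
  ([5, 1, 6], 0, [1, 5, 6], 0),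
  ([0, 6, 1], 6, [8, 13, 7], 6),
  ([9, 8], 3, [0, 8, 7], 3),
  ([8, 7], 6, [1, 1, 7], 6),
  ([4, 3], 1, [10, 5, 4], 1),
  ([11, 6, 9], 3, [6, 10, 8], 6),
  ([10], 8, [9], 12),
  ([7, 13], 9, [1, 7, 8], 13),
  ([10, 1], 0, [11, 9, 7], 3),
  ([13, 2], 5, [6, 10, 13], 1),
  ([9, 13, 7], 1, [3, 13, 8], 3),
  ([4, 2, 6], 3, [10, 4, 6], 9),
  ([10], 2, [12, 10, 0], 1),
  ([8], 4, [2, 0, 8], 4),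
  ([12, 8, 6], 3, [3, 8, 5], 13),
  ([6, 1, 10], 2, [2, 13, 11], 5),
  ([9, 6, 5], 0, [13, 12, 4], 2),
  ([4, 3], 1, [3, 4], 1),
  ([11, 10], 6, [12, 11, 5], 6),
  ([10, 6, 12], 2, [2, 6, 1], 10),
  ([10, 4, 13], 1, [4, 10, 13], 1),
  ([4], 2, [11, 8], 0),
  ([9, 6, 5], 13, [13, 2, 12], 13),
  ([6, 8, 13], 1, [7, 6, 4], 2),
  ([8, 6, 9], 4, [2, 8, 13], 11),
  ([11, 0, 6], 1, [0, 11, 6], 1),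
  ([4, 12], 2, [2, 1, 3], 0),
  ([12, 7], 13, [0, 5, 6], 2),
  ([2, 6, 3], 0, [9, 13, 10], 0),
  ([7, 10], 1, [10, 11, 7], 1),
  ([0, 6], 9, [9, 0], 13),
  ([10, 0], 1, [12, 1, 10], 2),
  ([7, 12, 13], 2, [5, 0, 13], 9),
  ([9, 0, 13], 1, [0, 9, 13], 1),
  ([], 3, [5], 3),
  ([6, 3, 1], 13, [10, 13, 8], 13),
  ([5, 6], 3, [3, 5], 13),
  ([12, 1], 6, [1, 12], 6),
  ([6], 12, [2, 13, 2], 5),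
  ([11, 10, 1], 13, [10, 11, 1], 13),
  ([11, 12], 13, [12, 11, 6], 3),
  ([10, 0], 1, [11, 0, 10], 1),
  ([12], 0, [1, 12, 8], 0),
  ([10, 0], 6, [0, 11, 10], 6),
  ([8, 5, 4], 6, [5, 8, 4], 6),
  ([8], 3, [4, 1], 10),
  ([2], 3, [7, 2, 0], 3),
  ([7, 4, 5], 13, [4, 7, 5], 13),
  ([], 0, [9], 0),
  ([1, 10], 6, [12, 10, 1], 6),
  ([2], 5, [9, 10], 1),
  ([11, 0], 6, [0, 11], 6),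
  ([8, 5, 13], 0, [5, 8, 13], 0),
  ([11, 1, 6], 3, [5, 11, 1], 13),
  ([8, 10], 6, [10, 8, 5], 6),
  ([6], 3, [13, 13], 3),
  ([2, 0], 3, [5, 11, 7], 1),
  ([8], 6, [2, 8, 6], 2),
  ([12], 2, [4, 8, 3], 0),
  ([0, 13], 9, [2, 0], 13),
  ([8, 2, 6], 1, [2, 8, 6], 1),
  ([13, 2, 4], 13, [9, 6, 11], 13),
  ([8], 7, [11], 9),
  ([3, 7], 6, [11, 7, 3], 6),
  ([4, 5, 1], 0, [9, 12, 10], 0),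
  ([2, 6], 4, [6, 3, 13], 0),
  ([11, 7], 1, [0, 8, 10], 0),
  ([10], 8, [11, 5, 1], 4),
  ([13, 8, 6], 4, [9, 0, 6], 12),
  ([3, 13], 1, [9, 13], 5),
  ([11, 13, 9], 3, [3, 11, 6], 9),
  ([6, 0], 3, [10, 13, 7], 3),
  ([9, 12, 6], 2, [8, 12, 13], 2),
  ([2, 6, 0], 1, [9, 13, 12], 2),
  ([6], 1, [2, 13], 8),
  ([11, 9, 13], 0, [3, 11, 13], 4),
  ([11, 2, 6], 1, [10, 11, 6], 12),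
  ([6, 2], 3, [3, 9, 13], 3),
  ([8, 5], 6, [2, 5, 6], 2),
  ([1, 4, 8], 6, [11, 1, 6], 9),
  ([10, 1, 6], 4, [9, 5, 13], 7),
  ([11, 12, 6], 3, [5, 11, 5], 13),
  ([9, 12], 6, [2, 2, 12], 6),
  ([7, 13], 3, [0, 0, 13], 3),
  ([10, 5, 1], 0, [5, 10, 1], 0),
  ([0, 1], 3, [12, 3, 7], 5),
  ([8, 3], 0, [3, 12, 8], 0),
  ([13, 12, 1], 0, [9, 6, 0], 5),
  ([4, 6], 1, [11, 11, 6], 1),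
  ([9], 4, [10], 7),
  ([5, 9, 13], 0, [10, 5, 6], 11),
  ([6, 1], 0, [13, 13, 1], 0),
  ([13, 0, 1], 6, [6, 8, 7], 6),
  ([1], 0, [11, 8], 7),
  ([4, 2, 6], 0, [3, 4, 13], 11),
  ([10], 8, [7, 5, 1], 0),
  ([6], 2, [13, 13], 2),
  ([9, 13], 4, [13, 10, 6], 0),
  ([7, 6, 12], 6, [4, 6, 5], 13),
  ([11], 5, [7, 5, 9], 4),
  ([12, 8], 6, [10, 8, 3], 6),
  ([1], 10, [9, 3, 0], 1)]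

/-- rack relators, part 4 -/
def rackL4 : List (List ℕ × ℕ × List ℕ × ℕ) := [
  ([2, 5, 13], 0, [5, 8, 6], 7),
  ([10, 1, 13], 5, [1, 5, 6], 12),
  ([8], 7, [12, 2, 0], 5),
  ([4, 12, 1], 0, [3, 11, 7], 1),
  ([13], 12, [9, 6, 10], 1),
  ([9, 5, 13], 8, [10, 1, 6], 12),
  ([9, 11], 6, [0, 11, 6], 2),
  ([2, 6], 4, [10, 6], 7),
  ([12, 10], 6, [5, 10, 5], 6),
  ([8, 6], 2, [2, 8, 13], 2),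
  ([12, 13, 10], 1, [3, 12, 6], 8),
  ([], 12, [9, 3], 1),
  ([10, 7], 1, [7, 5, 4], 1),
  ([4, 12], 6, [10, 12, 4], 6),
  ([9, 6], 4, [13, 3], 7),
  ([11, 7, 1], 13, [7, 11, 1], 13),
  ([9, 7], 3, [4, 10, 1], 0),
  ([13, 11, 13], 3, [3, 6, 4], 13),
  ([1], 0, [2, 1], 0),
  ([8, 6, 12], 2, [6, 0, 13], 7),
  ([7, 6], 1, [0, 0, 6], 1),
  ([1], 0, [9, 1], 0),
  ([5, 2, 6], 0, [3, 5, 13], 11),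
  ([2, 6, 3], 1, [10, 2, 13], 5),
  ([7, 4, 13], 0, [4, 7, 13], 0),
  ([8, 10], 0, [0, 11], 1),
  ([12, 6], 3, [3, 12], 13),
  ([0], 13, [2, 0, 6], 9),
  ([13, 12, 10], 0, [3, 6, 0], 5),
  ([1, 6], 2, [9, 1], 6),
  ([5, 11, 3], 6, [10, 11, 5], 6),
  ([13, 1, 7], 13, [6, 0, 8], 13),
  ([5, 3, 13], 0, [3, 5, 13], 0),
  ([9, 12, 6], 0, [13, 11, 6], 12),
  ([13, 2], 5, [3, 6, 10], 1),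
  ([8, 11], 13, [4, 1, 6], 2),
  ([7, 13], 2, [4, 2, 11], 6),
  ([4, 5, 1], 0, [3, 2, 0], 5),
  ([12, 1], 6, [5, 5, 1], 6),
  ([10, 7, 6], 4, [9, 4, 13], 7),
  ([13, 1], 3, [6, 6, 1], 3),
  ([7, 10], 1, [5, 2, 0], 5),
  ([9], 3, [2, 2], 3),
  ([0, 13, 2], 3, [9, 0, 6], 3),
  ([7, 12, 13], 0, [5, 0, 13], 7),
  ([13, 11], 1, [6, 6, 11], 1),
  ([10, 7], 1, [12, 9], 3),
  ([11], 13, [10, 11, 6], 3),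
  ([8, 5, 6], 2, [1, 9, 5], 6),
  ([9, 13], 1, [2, 6], 8),
  ([12, 6, 3], 0, [10, 12, 13], 7),
  ([6, 10, 1], 0, [2, 13, 7], 3),
  ([13, 8], 13, [2, 6, 0], 6),
  ([13, 3, 0], 1, [9, 6, 11], 5),
  ([11, 10], 6, [4, 10, 4], 6),
  ([6, 1, 6], 2, [9, 6, 0], 13),
  ([], 1, [2], 1),
  ([8, 10], 6, [1, 1, 10], 6),
  ([10, 8], 0, [8, 12, 10], 0),
  ([10, 1], 0, [4, 9], 3),
  ([6], 12, [3, 2, 6], 1),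
  ([2, 13], 5, [13, 3, 6], 1),
  ([13, 8], 6, [0, 13, 1], 13),
  ([8], 0, [4, 4], 2),
  ([4, 12, 1], 0, [12, 9, 7], 3),
  ([6], 3, [2, 13, 2], 3),
  ([10, 5, 1], 6, [12, 1, 10], 6),
  ([4, 3], 1, [2, 12, 10], 0),
  ([2, 4, 13], 0, [0, 4, 6], 7),
  ([11, 7], 1, [8, 3], 7),
  ([11], 1, [4, 4], 1),
  ([1, 7, 13], 1, [7, 1, 6], 8),
  ([9, 10, 5], 0, [5, 4, 0], 1),
  ([8, 5], 6, [5, 8], 6),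
  ([10], 2, [4, 10, 8], 0),
  ([6, 5, 3], 0, [10, 13, 7], 5),
  ([2, 11], 6, [7, 11, 13], 2),
  ([11, 10], 1, [7, 10, 0], 1),
  ([5, 6], 11, [10, 5, 13], 4),
  ([2, 13, 4], 1, [6, 0, 8], 4),
  ([5, 1], 4, [11, 8, 7], 3),
  ([13, 3], 0, [2, 10, 6], 0),
  ([3, 8], 6, [5, 8, 3], 6),
  ([6, 4, 3], 6, [10, 13, 11], 6),
  ([13], 9, [2], 13),
  ([13, 9], 3, [10, 2, 6], 3),
  ([8, 3], 2, [3, 12], 2),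
  ([10, 4], 6, [4, 10], 6),
  ([6, 1, 13], 1, [0, 6, 8], 7),
  ([4], 1, [5, 4, 3], 1),
  ([0, 5], 13, [12, 7, 6], 2),
  ([0], 5, [11, 0, 1], 3),
  ([5, 1, 13], 12, [1, 5, 13], 12),
  ([13, 0], 1, [6, 6, 0], 1),
  ([6, 7], 13, [1, 6, 0], 6),
  ([1, 13], 7, [13, 0, 6], 1),
  ([8, 5, 0], 6, [2, 7, 12], 13),
  ([8], 3, [1, 1], 3),
  ([9, 11], 6, [11, 0, 6], 2),
  ([3, 6], 0, [10, 10, 6], 0),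
  ([12, 7, 13], 0, [0, 5, 13], 7),
  ([7], 10, [2, 10, 8], 0),
  ([4, 8, 13], 3, [5, 4, 8], 13),
  ([4], 2, [0, 4], 2),
  ([1], 10, [4], 12),
  ([2, 6, 2], 3, [9, 13, 9], 3),
  ([6, 5, 13], 0, [11, 7, 6], 1),
  ([1, 7], 3, [3, 1], 4),
  ([5, 3], 0, [11, 10, 5], 0),
  ([12, 10], 0, [4, 12], 0),
  ([2, 6], 4, [3, 13, 10], 0),
  ([4, 6], 2, [11, 11, 6], 2),
  ([11, 6], 3, [0, 3, 7], 13),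
  ([1, 6, 3], 2, [10, 2, 12], 6),
  ([6, 0, 6], 2, [9, 6, 8], 13),
  ([13, 3], 1, [3, 2, 13], 5),
  ([6, 11], 6, [13, 13, 11], 6),
  ([11, 13], 5, [4, 4, 13], 5),
  ([3], 1, [9, 10], 8),
  ([3, 6, 7], 1, [13, 9, 8], 3),
  ([13, 3], 2, [3, 6, 10], 2),
  ([0, 8], 4, [9, 8], 4),
  ([8, 10], 0, [9, 11], 1),
  ([11], 6, [7, 11, 0], 6),
  ([6], 9, [10, 13, 9], 3),
  ([8], 4, [1, 1], 4),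
  ([1, 3, 6], 2, [3, 9, 5], 6),
  ([1, 3, 1], 0, [9, 7, 1], 3),
  ([8], 13, [1, 1], 13),
  ([5], 4, [4, 5], 4),
  ([12, 4, 6], 3, [4, 12, 13], 3),
  ([11, 6], 1, [4, 4, 6], 1),
  ([1], 10, [8, 11], 5),
  ([1, 6, 2], 3, [10, 2, 12], 13),
  ([1, 7, 12], 6, [9, 5, 0], 13),
  ([0, 1], 3, [3, 0], 5),
  ([4, 13, 3], 2, [13, 3, 8], 13),
  ([5, 1, 6], 3, [1, 5, 6], 3),
  ([12, 8, 13], 11, [8, 12, 13], 11),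
  ([6], 5, [2, 13, 3], 1),
  ([5, 13, 3], 2, [13, 3, 7], 13),
  ([9, 4, 6], 2, [0, 2, 4], 6),
  ([7, 1, 6], 9, [8, 7, 8], 13),
  ([12, 2, 6], 4, [10, 12, 6], 7),
  ([], 11, [12, 0], 3),
  ([2, 0], 5, [9, 0, 10], 1),
  ([7], 3, [12], 4),
  ([10, 5, 6], 0, [5, 10, 6], 0),
  ([2, 12, 3], 0, [11, 2, 5], 0),
  ([13, 4], 1, [6, 6, 4], 1),
  ([3, 7], 1, [2, 8], 3),
  ([8, 6], 2, [5, 9, 12], 6),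
  ([9, 3, 6], 0, [2, 10, 13], 0),
  ([2], 3, [3], 9),
  ([12, 6, 9], 3, [2, 10, 8], 13),
  ([8, 5], 6, [3, 8, 10], 6),
  ([8, 11, 1], 6, [11, 1, 4], 6),
  ([6, 3], 1, [10, 13], 8),
  ([4, 1, 13], 7, [8, 11, 13], 7),
  ([5], 0, [2, 5, 1], 0),
  ([2, 13], 5, [6, 10], 8),
  ([5, 6, 10], 2, [2, 10, 1], 6),
  ([12, 4, 3], 6, [3, 12, 4], 6),
  ([4], 1, [0, 1, 10], 0),
  ([0, 6], 8, [6, 1, 13], 0),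
  ([12, 1], 0, [4, 3, 7], 1),
  ([4, 9, 13], 1, [3, 4, 13], 12),
  ([4, 3, 1], 6, [3, 4, 1], 6),
  ([2], 5, [1, 2], 5),
  ([4, 0, 6], 4, [0, 4, 6], 4),
  ([0, 8, 6], 9, [7, 8, 7], 13),
  ([3, 8, 6], 3, [8, 5, 13], 3),
  ([3, 7, 6], 3, [11, 7, 13], 3),
  ([3], 2, [9, 10], 2),
  ([2, 5], 0, [7, 12, 1], 0),
  ([9, 13], 1, [6, 9, 13], 1),
  ([13, 4], 13, [6, 6, 4], 13),
  ([13, 3, 7], 1, [9, 6, 1], 3),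
  ([1, 6, 7], 6, [0, 13, 8], 6),
  ([8, 11, 7], 6, [2, 4, 1], 13),
  ([0], 1, [1, 0], 1),
  ([3, 13], 1, [2, 2, 13], 5),
  ([8, 7], 3, [11, 10], 8),
  ([13, 4], 2, [6, 6, 4], 2),
  ([10], 0, [4, 10], 0),
  ([2, 0, 6], 3, [0, 2, 6], 3),
  ([3, 0], 13, [0, 4, 6], 3),
  ([11, 10], 1, [1, 4, 3], 1),
  ([6, 10], 2, [9, 3, 13], 2),
  ([3, 0, 6], 5, [0, 4, 13], 12),
  ([12, 1, 13], 0, [1, 12, 13], 0),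
  ([6], 5, [3, 9, 13], 1),
  ([4, 0, 13], 0, [0, 4, 13], 0),
  ([13, 2], 3, [2, 2, 6], 3),
  ([3], 6, [6], 10),
  ([6, 5], 4, [10, 13, 7], 10),
  ([9, 13], 3, [3, 13], 9),
  ([5, 11, 6], 3, [11, 5, 13], 3),
  ([3, 8, 13], 2, [9, 10, 1], 6),
  ([11, 10, 0], 6, [3, 0, 3], 6),
  ([7, 13, 3], 1, [13, 1, 6], 11),
  ([13], 3, [6, 6], 3),
  ([2, 11, 6], 8, [3, 7, 13], 12),
  ([12, 3, 1], 0, [2, 8, 5], 4),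
  ([7], 13, [0, 0], 13),
  ([11, 7], 6, [3, 7, 10], 6),
  ([6, 7], 1, [13, 13, 7], 1),
  ([7, 12, 8], 6, [1, 5, 0], 13),
  ([1], 4, [8, 8], 4),
  ([5, 1, 13], 1, [9, 5, 6], 8),
  ([5, 7, 1], 13, [9, 5, 7], 13),
  ([7, 4], 13, [10, 7, 6], 3),
  ([3, 0], 1, [9, 1, 10], 2),
  ([10, 4, 1], 6, [4, 10, 1], 6),
  ([12, 1, 6], 0, [6, 11, 13], 8),
  ([4, 0], 1, [0, 4], 1),
  ([8, 6], 5, [1, 1, 6], 5),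
  ([7, 12, 0], 6, [5, 7, 6], 9),
  ([12, 3, 1], 0, [1, 5, 3], 0),
  ([5, 1], 6, [1, 5], 6),
  ([8, 4, 1], 6, [7, 1, 11], 13),
  ([10, 6, 12], 0, [2, 6, 4], 1),
  ([4], 1, [11, 11], 1),
  ([9, 13, 8], 0, [10, 6, 7], 10),
  ([5, 6], 2, [12, 12, 6], 2),
  ([11], 5, [10, 11], 5),
  ([3, 6, 12], 0, [13, 5, 9], 4),
  ([2, 13, 5], 6, [6, 9, 12], 6),
  ([11, 7], 6, [2, 11, 6], 2),
  ([6, 10], 0, [2, 13], 4),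
  ([0, 10], 6, [10, 4, 0], 6),
  ([3, 13], 8, [10, 6, 3], 1),
  ([2, 4, 6], 1, [3, 0, 13], 5),
  ([], 12, [4, 8], 3),
  ([1, 13, 0], 6, [7, 6, 8], 6),
  ([5, 4], 13, [4, 5, 13], 3),
  ([13], 8, [9, 6], 1),
  ([11, 13], 5, [3, 11, 6], 12),
  ([0, 12, 7], 6, [8, 7, 5], 13),
  ([4, 0], 13, [0, 4], 13),
  ([9, 8], 3, [2, 3, 7], 1),
  ([11, 7, 13], 0, [7, 11, 13], 0),
  ([8, 7], 6, [7, 8, 6], 2),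
  ([11, 13], 2, [4, 4, 13], 2),
  ([8, 3, 6], 2, [3, 9, 12], 6),
  ([10], 8, [1, 10], 8),
  ([9, 7, 13], 0, [7, 9, 13], 0),
  ([2, 5], 0, [1, 5, 1], 0),
  ([12, 11, 13], 5, [11, 12, 6], 12),
  ([6], 12, [9, 10, 6], 8),
  ([10, 6, 1], 0, [2, 6, 0], 3),
  ([1, 0], 6, [0, 1, 6], 2),
  ([7, 13, 7], 6, [0, 13, 0], 13),
  ([0, 8], 13, [6, 1, 7], 13),
  ([8, 13], 0, [1, 1, 13], 0),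
  ([7, 4, 6], 8, [4, 7, 6], 8),
  ([], 2, [8], 2),
  ([5], 0, [7, 12], 0),
  ([7, 4, 13], 5, [4, 7, 13], 5),
  ([13, 7], 1, [9, 6, 0], 8),
  ([11], 13, [4, 4], 13),
  ([4, 2, 6], 4, [10, 4, 6], 7),
  ([1, 13, 0], 6, [8, 13, 7], 13),
  ([2, 5], 0, [0, 3], 1),
  ([0], 3, [7, 7], 3),
  ([10, 13, 0], 1, [6, 8, 3], 2),
  ([13, 8, 6], 4, [0, 13, 2], 5),
  ([13, 0], 3, [6, 6, 0], 3),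
  ([10], 1, [12, 10], 1),
  ([11], 5, [9, 8, 3], 2),
  ([9, 11, 6], 2, [0, 11, 13], 2),
  ([10, 6], 1, [2, 6], 5),
  ([12, 13, 10], 0, [3, 12, 6], 7),
  ([7, 4, 6], 3, [0, 3, 0], 13),
  ([11, 0, 12], 6, [0, 11, 12], 6),
  ([6], 11, [9, 10, 6], 0),
  ([5, 4], 1, [11, 11, 10], 1),
  ([7, 6, 7], 6, [0, 6, 0], 13),
  ([7, 8], 6, [8, 7, 13], 2),
  ([1, 10, 1], 6, [12, 10, 8], 6),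
  ([9, 13], 4, [2, 6, 10], 0),
  ([4, 12], 2, [12, 10, 4], 2),
  ([8, 7, 6], 9, [0, 8, 0], 13),
  ([13, 12, 13], 3, [3, 6, 5], 13),
  ([0, 1], 3, [4, 0], 5),
  ([0, 10], 1, [1, 0], 5),
  ([1, 3, 1], 0, [5, 3, 8], 0),
  ([13, 2], 5, [9, 6], 12),
  ([1, 3, 13], 1, [9, 1, 13], 5),
  ([6, 9], 3, [2, 13], 3),
  ([11, 6], 2, [9, 11, 7], 6),
  ([12, 10], 6, [1, 10, 8], 6),
  ([12], 2, [9, 12], 2),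
  ([10, 8, 4], 6, [8, 4, 12], 6),
  ([4, 12], 2, [8, 0, 8], 4),
  ([8, 6, 0], 6, [7, 13, 1], 6),
  ([10, 4], 2, [0, 10], 2),
  ([3, 8, 6], 3, [10, 12, 8], 13),
  ([4, 3], 1, [7, 3, 0], 1),
  ([10, 13], 0, [6, 3], 7)]

/-- rack relators, part 5 -/
def rackL5 : List (List ℕ × ℕ × List ℕ × ℕ) := [
  ([5, 2, 6], 0, [10, 5, 6], 4),
  ([1, 3], 0, [11, 0, 8], 4),
  ([8, 13], 7, [9, 8, 6], 0),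
  ([5, 0, 13], 1, [7, 12, 13], 1),
  ([4, 5, 6], 3, [5, 4, 13], 3),
  ([3, 6, 5], 6, [13, 12, 10], 6),
  ([7], 6, [0, 0], 6),
  ([6, 7], 3, [10, 13, 0], 3),
  ([4, 5], 13, [5, 4, 6], 3),
  ([5], 13, [3, 5, 13], 3),
  ([9, 13], 0, [6, 9, 13], 0),
  ([5, 3], 0, [1, 3, 8], 0),
  ([7, 4, 13], 1, [13, 12, 6], 4),
  ([11, 6], 2, [4, 4, 6], 2),
  ([11, 7], 1, [1, 4, 0], 1),
  ([8, 7], 3, [5, 8, 5], 4),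
  ([1, 0, 6], 2, [2, 0, 1], 6),
  ([6], 2, [2, 13], 2),
  ([9, 1, 13], 1, [1, 9, 13], 1),
  ([6, 12], 2, [2, 13, 0], 1),
  ([0], 5, [7, 7], 5),
  ([12, 10, 6], 0, [10, 12, 6], 0),
  ([0, 13, 3], 2, [9, 0, 3], 6),
  ([4, 3, 8], 6, [3, 4, 8], 6),
  ([5, 1], 0, [9, 5], 0),
  ([1], 3, [11, 11], 5),
  ([8, 6, 11], 6, [12, 6, 4], 13),
  ([7, 8, 11], 6, [9, 4, 1], 13),
  ([6], 9, [3, 2, 6], 3),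
  ([1, 4, 13], 0, [11, 8, 13], 0),
  ([9, 8], 3, [11, 5, 1], 0),
  ([11, 13, 3], 2, [13, 3, 1], 13),
  ([5, 3], 6, [10, 10, 5], 6),
  ([7, 2, 6], 0, [2, 7, 6], 0),
  ([8], 0, [1, 1], 0),
  ([6, 8], 6, [7, 6, 1], 13),
  ([9], 4, [0, 9], 4),
  ([4, 3], 1, [12, 4], 1),
  ([9, 3, 6], 1, [2, 10, 13], 1),
  ([1, 13], 9, [5, 2, 12], 13),
  ([12, 8], 0, [8, 12], 0),
  ([0], 1, [5], 2),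
  ([10, 13], 1, [3, 3, 13], 1),
  ([8, 13, 3], 2, [9, 8, 3], 6),
  ([4, 2, 6], 1, [3, 4, 13], 5),
  ([12, 4], 2, [2, 7], 5),
  ([4, 0, 13], 4, [0, 4, 13], 4),
  ([9, 3, 6], 0, [10, 6, 10], 0),
  ([7], 10, [12], 11),
  ([13, 4, 0], 1, [9, 6, 8], 4),
  ([0, 12, 13], 2, [8, 0, 12], 6),
  ([4, 3], 6, [3, 4], 6),
  ([9, 13, 1], 0, [3, 13, 7], 3),
  ([1, 0, 6], 2, [0, 1, 13], 2),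
  ([8, 11, 12], 6, [4, 9, 5], 13),
  ([4, 3], 1, [8, 11, 10], 1),
  ([12, 2, 6], 0, [10, 12, 6], 4),
  ([7], 10, [5, 0], 3),
  ([0, 8, 11], 6, [4, 1, 0], 13),
  ([13, 2, 0], 3, [9, 6, 7], 3),
  ([11, 12, 3], 6, [5, 11, 5], 6),
  ([0, 10, 6], 0, [2, 0, 6], 11),
  ([3, 13], 1, [10, 10, 13], 1),
  ([4, 13, 2], 3, [13, 3, 8], 6),
  ([10, 8, 13], 4, [8, 12, 6], 11),
  ([13, 0], 13, [1, 13, 7], 6),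
  ([8, 5, 6], 2, [2, 5, 13], 2),
  ([11, 0, 6], 5, [0, 11, 6], 5),
  ([], 5, [8], 5),
  ([11, 8], 13, [1, 4, 6], 2),
  ([10, 13, 11], 1, [6, 1, 7], 3),
  ([9, 7], 3, [11, 9], 3),
  ([1, 6, 7], 6, [7, 13, 1], 13),
  ([4, 12, 1], 0, [0, 3, 0], 1),
  ([9, 7, 13], 0, [2, 7, 6], 7),
  ([2], 5, [13, 10, 13], 1),
  ([13], 11, [3, 6], 4),
  ([7, 5, 6], 2, [5, 0, 12], 13),
  ([10, 5], 0, [0, 8], 3),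
  ([7, 10], 1, [1, 12, 4], 2),
  ([13, 2, 5], 0, [9, 6, 7], 5),
  ([10, 4, 6], 2, [4, 10, 6], 2),
  ([6], 11, [3, 9, 13], 0),
  ([10], 8, [2, 3], 1),
  ([12, 1], 6, [2, 12, 6], 2),
  ([13, 3, 8], 0, [9, 6, 7], 10),
  ([0], 13, [7, 7], 13),
  ([11], 5, [1, 1], 10),
  ([2, 1, 6], 1, [1, 2, 6], 1),
  ([8, 6], 7, [6, 0, 13], 8),
  ([], 0, [11], 0),
  ([12, 3, 1], 6, [3, 12, 1], 6),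
  ([1, 6], 9, [9, 1], 13),
  ([4, 3], 6, [7, 3, 0], 6),
  ([12, 8, 13], 0, [8, 12, 13], 0),
  ([2, 6], 3, [3, 13, 9], 3),
  ([1, 4], 13, [11, 8, 6], 2),
  ([3], 0, [9, 9], 4),
  ([8, 5], 4, [10, 8, 7], 3),
  ([7, 1, 6], 9, [9, 7, 1], 13),
  ([8], 3, [7, 10, 5], 0),
  ([7, 13], 9, [2, 7], 13),
  ([10, 5, 1], 0, [9, 11, 10], 1),
  ([7, 4, 13], 1, [4, 7, 13], 1),
  ([12], 0, [5, 5], 0),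
  ([4, 5, 3], 6, [10, 5, 4], 6),
  ([11], 1, [9, 11, 7], 1),
  ([11, 8, 13], 1, [1, 4, 13], 8),
  ([4, 0], 1, [11, 8, 10], 0),
  ([8, 3, 13], 0, [9, 8, 13], 11),
  ([9, 8, 6], 4, [13, 7, 6], 5),
  ([0], 5, [1, 2, 0], 5),
  ([1], 3, [5, 1], 3),
  ([2, 0, 13], 5, [0, 2, 13], 5),
  ([5, 4], 1, [4, 10], 1),
  ([4, 1, 13], 0, [8, 11, 13], 0),
  ([10, 6], 1, [3, 3, 6], 1),
  ([12, 6, 9], 3, [6, 10, 7], 6),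
  ([4], 6, [11, 11], 6),
  ([8, 13, 9], 3, [3, 9, 12], 13),
  ([4, 13], 2, [2, 7, 4], 6),
  ([12, 4], 2, [1, 7], 5),
  ([0, 6, 1], 6, [1, 13, 0], 13),
  ([11, 13], 3, [7, 10, 0], 13),
  ([11, 9, 12], 6, [1, 4, 5], 13),
  ([11, 0], 6, [4, 4, 0], 6),
  ([7, 13, 3], 1, [9, 7, 6], 5),
  ([12, 4], 2, [3, 4, 12], 2),
  ([8, 6], 9, [9, 8], 13),
  ([7, 1, 6], 2, [9, 7, 1], 6),
  ([13, 10, 5], 6, [3, 6, 12], 6),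
  ([13, 1], 3, [3, 6, 8], 3),
  ([5, 11], 6, [12, 12, 11], 6),
  ([13, 10, 1], 13, [3, 6, 8], 13),
  ([0, 13, 1], 0, [13, 8, 6], 1),
  ([2, 1, 11], 6, [1, 2, 11], 6),
  ([8, 7], 3, [7, 9, 8], 3),
  ([4, 1, 7], 6, [8, 9, 11], 13),
  ([12, 10], 0, [1, 10, 8], 0),
  ([0], 8, [5], 9),
  ([3, 13], 8, [2, 6, 10], 1),
  ([11, 0], 13, [0, 11], 13),
  ([9, 1, 4], 6, [1, 9, 4], 6),
  ([6], 3, [10, 13], 3),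
  ([4, 13], 0, [11, 11, 13], 0),
  ([8, 6], 2, [9, 8], 6),
  ([10, 6], 2, [2, 3], 6),
  ([10, 8, 13], 5, [8, 12, 6], 12),
  ([4, 3], 2, [9, 10, 8], 0),
  ([11, 13, 2], 3, [13, 3, 1], 6),
  ([], 13, [10, 6], 3),
  ([9, 4, 13], 3, [3, 2, 11], 13),
  ([9, 5], 6, [1, 5, 6], 2),
  ([9, 13], 0, [2, 6], 7),
  ([4, 13, 2], 3, [9, 3, 0], 13),
  ([5, 1], 13, [10, 1, 6], 3),
  ([13, 7], 3, [6, 6, 7], 3),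
  ([9, 10, 5], 0, [2, 11, 3], 1),
  ([1, 10], 0, [9, 4], 1),
  ([1, 3], 0, [0, 1], 4),
  ([3, 8], 13, [5, 8, 6], 3),
  ([1, 0, 6], 9, [7, 1, 7], 13),
  ([10, 1], 0, [2, 2, 0], 3),
  ([10, 5], 0, [8, 10, 1], 0),
  ([3, 6, 1], 6, [13, 10, 8], 6),
  ([8, 3, 13], 8, [9, 8, 13], 12),
  ([10, 4], 2, [4, 10], 2),
  ([12, 10], 0, [0, 5, 3], 0),
  ([9, 5, 6], 9, [8, 2, 5], 13),
  ([1, 10], 2, [10, 12], 2),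
  ([5, 1, 13], 1, [1, 5, 13], 1),
  ([7, 13], 7, [9, 7, 6], 0),
  ([12, 13], 1, [5, 5, 13], 1),
  ([5, 6, 2], 3, [10, 5, 13], 9),
  ([0], 6, [7, 7], 6),
  ([0, 3, 0], 6, [7, 4, 3], 6),
  ([3, 0], 6, [10, 10, 0], 6),
  ([4, 3, 0], 6, [3, 4, 0], 6),
  ([11, 0, 13], 0, [0, 11, 13], 0),
  ([11, 10, 13], 0, [10, 11, 13], 0),
  ([0, 13], 2, [11, 2, 4], 6),
  ([], 4, [7], 4),
  ([11, 6], 3, [4, 4, 6], 3),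
  ([10, 0, 13], 4, [0, 11, 6], 11),
  ([1, 3, 1], 0, [0, 5, 4], 1),
  ([11, 0, 5], 6, [0, 11, 5], 6),
  ([11, 9, 13], 0, [10, 11, 6], 11),
  ([8, 13], 2, [12, 2, 5], 6),
  ([4], 1, [7, 4, 0], 1),
  ([], 3, [12], 3),
  ([8, 0], 6, [13, 7, 1], 6),
  ([0, 13, 4], 2, [13, 8, 6], 8),
  ([3, 1, 11], 6, [1, 11, 12], 6),
  ([5, 3], 0, [10, 10, 5], 0),
  ([12, 6], 4, [5, 5, 6], 4),
  ([12, 4], 13, [4, 12, 6], 3),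
  ([3], 7, [2], 11),
  ([5, 13, 2], 3, [9, 3, 8], 13),
  ([8, 11, 13], 2, [4, 1, 13], 9),
  ([10, 7], 6, [3, 3, 7], 6),
  ([7], 3, [5, 5], 4),
  ([8, 2, 11], 6, [2, 8, 11], 6),
  ([8, 10], 0, [10, 2, 5], 0),
  ([12, 11, 1], 6, [11, 1, 10], 6),
  ([5, 0], 13, [7, 12, 6], 2),
  ([1, 13], 2, [9, 1, 6], 2),
  ([2, 6, 7], 1, [10, 6, 8], 3),
  ([1, 13, 2], 3, [9, 1, 6], 3),
  ([12, 13], 3, [10, 12], 13),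
  ([7, 13], 2, [13, 1, 6], 9),
  ([8, 5, 6], 1, [5, 8, 6], 1),
  ([2, 6, 2], 3, [6, 2, 6], 3),
  ([5, 13], 0, [12, 12, 13], 0),
  ([10, 6], 0, [9, 13, 3], 0),
  ([], 12, [2, 10], 8),
  ([7, 1], 3, [11, 3, 7], 5),
  ([13], 1, [6, 6], 1),
  ([4, 13], 4, [3, 4, 6], 11),
  ([7], 5, [3, 7, 1], 3),
  ([7], 5, [9, 12, 4], 2),
  ([13], 4, [9, 6, 10], 0),
  ([3, 13], 2, [13, 10, 6], 2),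
  ([3, 8, 13], 4, [2, 5, 6], 7),
  ([0, 10], 1, [4, 10, 0], 1),
  ([12, 3, 1], 6, [5, 1, 3], 6),
  ([12, 1], 0, [2, 12], 0),
  ([11, 10], 1, [4, 5, 4], 1),
  ([11, 7], 1, [2, 11], 1),
  ([5, 4], 1, [8, 11, 3], 1),
  ([11, 2, 6], 4, [10, 11, 6], 7),
  ([11], 6, [4, 4], 6),
  ([3, 6, 11], 1, [13, 5, 1], 4),
  ([7, 1], 3, [12, 9], 4),
  ([1, 13], 2, [2, 1], 6),
  ([6, 8], 13, [8, 6, 1], 6),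
  ([13, 0], 5, [6, 6, 0], 5),
  ([9, 11, 6], 1, [0, 11, 13], 8),
  ([10], 0, [2, 3], 7),
  ([4, 5, 1], 0, [11, 9, 8], 3),
  ([7, 6], 2, [9, 7], 6),
  ([7, 8], 6, [13, 1, 0], 6),
  ([0, 8], 6, [8, 0, 6], 2),
  ([6, 2], 3, [2, 13, 9], 3),
  ([10, 0], 1, [5, 10], 2),
  ([10], 1, [3, 3], 1),
  ([8, 0], 6, [0, 8, 13], 2),
  ([9, 3, 6], 1, [10, 6, 10], 1),
  ([4, 0, 13], 1, [0, 4, 13], 1),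
  ([10, 1], 0, [9, 0], 3),
  ([8], 3, [12, 8], 3),
  ([9, 4, 6], 2, [7, 4, 13], 2),
  ([13], 2, [6, 6], 2),
  ([5, 13], 2, [1, 2, 5], 6),
  ([9, 11, 13], 1, [10, 0, 6], 5),
  ([9, 1, 13], 0, [1, 9, 13], 0),
  ([7, 4], 6, [10, 7, 3], 6),
  ([0, 12, 6], 2, [12, 7, 5], 13),
  ([2, 13, 5], 0, [6, 7, 10], 1),
  ([12, 1], 0, [5, 5, 1], 0),
  ([11, 0, 6], 3, [7, 3, 7], 13),
  ([3, 0], 1, [5, 3], 2),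
  ([5, 6], 1, [12, 12, 6], 1),
  ([3, 6], 1, [9, 10, 13], 1),
  ([6, 7], 6, [9, 13, 1], 13),
  ([12], 0, [9, 12, 1], 0),
  ([7, 10], 1, [11, 10, 7], 1),
  ([1, 10, 6], 2, [2, 1, 3], 6),
  ([9, 13, 12], 0, [3, 13, 8], 4),
  ([8, 7], 3, [10, 8], 4),
  ([5, 4], 1, [1, 0], 3),
  ([1, 3, 1], 0, [11, 10, 0], 1),
  ([8, 10, 6], 2, [2, 8, 3], 6),
  ([12, 3], 0, [5, 5, 3], 0),
  ([9, 5, 6], 0, [13, 4, 6], 12),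
  ([1, 10], 0, [7, 4], 1),
  ([11, 13], 3, [10, 11], 13),
  ([5], 4, [10, 5], 4),
  ([13, 7, 13], 2, [9, 6, 0], 6),
  ([5, 11], 13, [11, 5, 6], 3),
  ([13], 2, [9, 6], 2),
  ([12, 6], 0, [5, 5, 6], 0),
  ([2, 1], 3, [12, 3, 7], 1),
  ([13, 7], 1, [6, 6, 7], 1),
  ([4, 12, 1], 0, [11, 3, 7], 1),
  ([4, 3, 13], 8, [3, 4, 13], 8),
  ([11, 6, 10], 2, [6, 10, 8], 13)]

/-- the rack relators `u y u⁻¹ = v y' v⁻¹` -/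
def rackL : List (List ℕ × ℕ × List ℕ × ℕ) := rackL0 ++ rackL1 ++ rackL2 ++ rackL3 ++ rackL4 ++ rackL5

/-- the commutator relators `x y x⁻¹ y⁻¹ = z` -/
def stL : List (ℕ × ℕ × ℕ) := [(0, 1, 2), (1, 3, 5), (2, 4, 0), (3, 0, 4), (4, 5, 3), (5, 2, 1)]

/-- all the relators -/
def relL : List (List ℕ) := relWords rackL stL

theorem hst_ok : ∀ s ∈ stL, ([s.2.2], s.2.1, [], s.2.1) ∈ rackL := by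
  decide +kernel

/-- the commutation relators that are needed besides those of the enumeration -/
def extraL : List (List ℕ × ℕ × List ℕ × ℕ) := [([2], 1, [], 1), ([5], 3, [], 3), ([0], 4, [], 4), ([4], 0, [], 0), ([3], 5, [], 5), ([1], 2, [], 2), ([0], 2, [], 2), ([1], 5, [], 5), ([3], 4, [], 4)]

/-- the words of the enumeration, part 0 -/
def tagL0 : List Tag := [
  .sub 0,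
  .rack [6, 5, 6] 3 [10, 13, 12] 13,
  .rack [2, 0] 3 [11, 2] 3,
  .rack [5, 13, 10] 1 [3, 5, 6] 8,
  .rack [13, 0, 13] 2 [6, 8, 6] 9,
  .rack [12, 1, 6] 0 [1, 12, 6] 0,
  .rack [12, 8, 6] 4 [8, 12, 6] 4,
  .rack [3, 13] 0 [13, 2, 6] 4,
  .rack [13] 4 [6, 6] 4,
  .rack [12, 13, 2] 3 [9, 3, 1] 13,
  .rack [10, 0] 1 [3, 3, 0] 1,
  .rack [13, 11, 6] 1 [9, 12, 6] 4,
  .rack [11] 5 [3, 11] 5,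
  .rack [1, 0, 6] 2 [7, 1, 7] 6,
  .rack [3, 8] 0 [2, 5] 4,
  .rack [10, 7] 13 [4, 7, 13] 3,
  .rack [7, 4, 6] 3 [11, 3, 7] 13,
  .rack [7, 3] 6 [4, 3, 7] 6,
  .rack [10, 0] 13 [11, 0, 13] 3,
  .rack [3] 6 [9, 10, 6] 2,
  .rack [13, 1, 13] 2 [2, 13, 7] 13,
  .rack [11, 3] 6 [3, 11] 6,
  .cube 1,
  .rack [2, 5, 13] 0 [8, 5, 6] 7,
  .rack [5, 1, 6] 5 [1, 5, 6] 5,
  .rack [3] 1 [0, 12, 1] 0,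
  .rack [1, 6] 2 [7, 1, 0] 6,
  .rack [3, 13, 12] 0 [9, 13, 4] 1,
  .rack [9, 7, 5] 6 [7, 9, 5] 6,
  .rack [12] 6 [5, 5] 6,
  .rack [6, 12, 3] 0 [10, 13, 0] 5,
  .rack [8, 13, 2] 5 [9, 8, 6] 12,
  .rack [11, 10, 0] 6 [0, 10, 4] 6,
  .rack [13, 8] 13 [0, 13, 1] 6,
  .rack [7, 4, 5] 6 [4, 7, 5] 6,
  .rack [1, 10] 0 [12, 10, 1] 0,
  .rack [12] 0 [0, 5] 0,
  .rack [7, 10] 6 [11, 10, 7] 6,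
  .rack [2, 12, 3] 0 [4, 3, 0] 1,
  .rack [5, 11] 6 [3, 11, 5] 6,
  .rack [0] 1 [8, 0] 1,
  .rack [13, 12] 6 [6, 6, 12] 6,
  .rack [12] 0 [11, 12, 10] 0,
  .rack [11, 3] 1 [4, 4, 3] 1,
  .rack [13, 7] 10 [3, 6, 5] 4,
  .rack [2, 6, 12] 0 [10, 6, 8] 4,
  .rack [11, 13] 1 [4, 4, 13] 1,
  .rack [9] 4 [7, 9] 4,
  .rack [12, 10] 0 [3, 12, 3] 0,
  .rack [8, 11, 0] 6 [4, 7, 1] 13,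
  .rack [0, 5, 11] 6 [12, 9, 4] 13,
  .rack [8, 6, 10] 1 [2, 8, 13] 12,
  .rack [7, 2, 13] 5 [2, 7, 13] 5,
  .rack [8, 3] 0 [11, 12] 2,
  .rack [12, 3] 0 [3, 12] 0,
  .rack [2, 6, 2] 3 [13, 9, 13] 3,
  .rack [10, 6] 2 [9, 13, 3] 2,
  .rack [1] 6 [8, 8] 6,
  .rack [0, 3, 0] 6 [4, 7, 3] 6,
  .rack [9, 3, 6] 0 [6, 10, 6] 0,
  .rack [12, 1] 13 [1, 12] 13,
  .rack [6, 7] 13 [7, 6, 0] 6,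
  .rack [12, 10, 13] 0 [10, 12, 13] 0,
  .rack [9, 11, 6] 1 [13, 5, 6] 11,
  .rack [13] 4 [3, 6] 11,
  .rack [7, 3, 13] 0 [9, 7, 13] 11,
  .rack [12] 2 [0, 0] 8,
  .rack [5, 13] 3 [10, 5] 13,
  .rack [2, 1] 3 [1, 2] 3,
  .rack [1, 3, 13] 0 [9, 1, 13] 11,
  .rack [11, 10] 1 [12, 11] 1,
  .rack [4] 2 [1] 7,
  .rack [12, 1, 13] 7 [1, 12, 13] 7,
  .rack [11] 13 [7, 11, 0] 13,
  .rack [11, 10, 6] 0 [10, 11, 6] 0,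
  .rack [1] 10 [2, 1, 10] 2,
  .rack [8, 5, 6] 4 [5, 8, 6] 4,
  .rack [5, 11, 3] 6 [4, 5, 4] 6,
  .rack [1, 10] 2 [12, 10] 2,
  .rack [12, 1, 6] 9 [9, 12, 8] 13,
  .rack [2, 12, 13] 1 [12, 1, 6] 8,
  .rack [7, 10] 6 [0, 0, 10] 6,
  .rack [10, 5] 0 [7, 12, 3] 0,
  .rack [12, 1, 11] 6 [1, 12, 11] 6,
  .rack [13, 7] 5 [6, 6, 7] 5,
  .rack [0] 1 [7, 7] 1,
  .rack [8, 13, 0] 1 [13, 7, 6] 7,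
  .rack [8, 7, 12] 6 [5, 0, 8] 13,
  .rack [3, 0] 13 [4, 0, 6] 3,
  .rack [10, 6, 4] 2 [2, 6, 5] 4,
  .rack [9, 12, 13] 1 [10, 8, 6] 5,
  .rack [9, 3, 6] 1 [3, 13, 2] 5,
  .rack [8, 3] 0 [12, 3, 8] 0,
  .rack [10, 6] 8 [9, 13, 2] 5,
  .rack [9, 13] 3 [13, 2, 6] 3,
  .rack [7, 4, 13] 4 [4, 7, 13] 4,
  .rack [6, 1] 13 [9, 13, 0] 6,
  .rack [5, 13] 2 [2, 5, 1] 6,
  .rack [1, 10, 13] 0 [6, 7, 13] 12,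
  .cube 3,
  .rack [4, 12, 13] 4 [12, 4, 6] 11,
  .rack [1, 10, 1] 0 [12, 10, 8] 0,
  .rack [9, 11, 6] 2 [7, 2, 11] 6,
  .rack [2, 5] 0 [11, 3, 0] 1,
  .rack [8, 2, 6] 1 [9, 8, 13] 8,
  .rack [4, 0] 6 [2, 4, 6] 2,
  .rack [8, 2, 11] 6 [4, 0, 1] 13,
  .rack [2, 12, 3] 6 [10, 9, 5] 6,
  .rack [1, 0, 5] 6 [12, 7, 1] 13,
  .rack [12, 10] 0 [10, 12] 0,
  .rack [0, 6] 2 [2, 0, 13] 2,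
  .rack [5, 6] 12 [10, 5, 13] 5,
  .rack [12, 13] 7 [5, 5, 13] 7,
  .st 3 0 4,
  .rack [12, 10, 13] 1 [10, 12, 13] 1,
  .rack [1, 3, 1] 0 [12, 8, 3] 0,
  .rack [12, 6] 4 [10, 12, 13] 11,
  .nil,
  .rack [10, 13, 1] 0 [6, 2, 0] 3,
  .rack [12, 8, 13] 0 [13, 11, 6] 5,
  .rack [13, 8] 3 [6, 6, 8] 3,
  .rack [13] 1 [9, 6] 8,
  .rack [7, 4, 6] 3 [10, 7, 13] 3,
  .rack [12, 4] 2 [9, 7, 10] 1,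
  .rack [8, 11] 6 [1, 1, 11] 6,
  .rack [] 9 [11, 1] 0,
  .rack [12, 0] 6 [5, 5, 0] 6,
  .rack [5, 2, 6] 3 [10, 5, 6] 9,
  .rack [3, 6] 0 [13, 9] 4,
  .rack [6, 9] 4 [9, 3, 13] 0,
  .rack [9, 8] 3 [5, 9] 3,
  .rack [0] 3 [8, 5, 4] 1,
  .rack [6, 9, 5] 6 [2, 13, 12] 6,
  .rack [11, 13] 3 [3, 11, 6] 3,
  .rack [3, 0, 6] 3 [4, 0, 13] 3,
  .rack [12, 3, 1] 6 [8, 3, 8] 6,
  .rack [12, 8, 13] 4 [8, 12, 13] 4,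
  .rack [13, 12] 2 [9, 6, 0] 1,
  .rack [8, 5] 13 [5, 8] 13,
  .rack [5, 13, 3] 2 [9, 3, 8] 6,
  .rack [9, 12, 13] 3 [3, 2, 5] 13,
  .rack [6, 0, 6] 2 [2, 13, 7] 6,
  .cube 4,
  .rack [6, 8, 6] 2 [2, 13, 1] 6,
  .rack [2, 6] 4 [9, 9, 6] 4,
  .rack [1, 13] 7 [9, 1, 6] 0,
  .rack [10] 8 [6, 3, 6] 1,
  .rack [0, 3, 13] 1 [9, 0, 13] 5,
  .rack [0, 5, 13] 1 [12, 7, 13] 1,
  .rack [9, 12, 7] 6 [8, 0, 5] 13,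
  .rack [8] 4 [10, 8, 5] 4,
  .rack [3, 8, 13] 9 [9, 10, 1] 13,
  .rack [10, 4] 6 [3, 4, 3] 6,
  .rack [9, 7] 3 [3, 2, 0] 3,
  .rack [9] 3 [0, 9, 7] 3,
  .rack [13] 7 [2, 2, 6] 0,
  .rack [13] 0 [6, 6] 0,
  .rack [3, 8, 4] 6 [8, 4, 5] 6,
  .rack [2, 0] 5 [11, 2, 1] 3,
  .rack [12, 8, 11] 13 [8, 12, 11] 13,
  .rack [8, 10] 0 [11, 0] 1,
  .rack [12, 9, 13] 1 [3, 12, 13] 12,
  .rack [8, 10] 0 [2, 11, 7] 1,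
  .rack [9, 13] 1 [3, 13] 12,
  .rack [2] 3 [12, 2, 1] 3,
  .rack [0, 13] 1 [9, 0, 6] 8,
  .rack [0, 8] 4 [11, 0] 8,
  .rack [8, 7] 6 [9, 7, 8] 6,
  .rack [2, 6, 5] 0 [10, 6, 1] 4,
  .rack [3, 0, 13] 2 [9, 10, 7] 6,
  .inv 12,
  .rack [6, 5, 13] 0 [7, 11, 6] 1,
  .rack [12, 13] 2 [2, 12, 8] 6,
  .rack [4, 0, 8] 6 [0, 4, 8] 6,
  .rack [6, 1] 6 [9, 13, 0] 13,
  .rack [3, 0, 6] 3 [10, 11, 0] 13,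
  .rack [13, 7] 13 [8, 13, 0] 6,
  .rack [] 12 [7, 5] 0,
  .rack [10, 8] 0 [11, 10] 2,
  .rack [5] 4 [12, 7] 3,
  .rack [13, 1] 0 [6, 6, 1] 0,
  .rack [1] 13 [2, 1, 6] 9,
  .rack [9, 0, 13] 1 [2, 0, 6] 8,
  .rack [5, 1, 13] 4 [1, 5, 13] 4,
  .rack [6] 4 [13, 13] 4,
  .rack [13, 4, 13] 3 [3, 6, 11] 13,
  .rack [6, 7] 1 [2, 13, 0] 8,
  .rack [5, 1, 11] 6 [1, 5, 11] 6,
  .rack [10, 7] 1 [9, 1] 3,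
  .rack [11, 6] 3 [10, 11, 13] 3,
  .rack [6, 9] 4 [10, 13, 3] 0,
  .rack [9, 7] 3 [8, 7, 1] 3,
  .rack [6, 10] 2 [13, 3, 6] 2,
  .rack [13, 12, 6] 0 [9, 4, 6] 5,
  .rack [5] 4 [9, 3, 8] 0,
  .rack [13, 2, 1] 3 [9, 6, 8] 3,
  .rack [11, 7] 6 [0, 11, 0] 6,
  .rack [3, 13] 2 [9, 10] 6,
  .st 2 4 0,
  .rack [3, 7, 6] 5 [7, 11, 13] 12,
  .rack [5, 3] 6 [3, 5] 6,
  .rack [7, 10] 1 [12, 8] 7,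
  .rack [10, 13] 0 [2, 3, 6] 0,
  .rack [9, 11, 6] 9 [7, 2, 11] 13,
  .rack [11, 7, 6] 2 [0, 9, 11] 6,
  .rack [2, 6] 0 [3, 13] 11,
  .rack [11, 6, 9] 3 [2, 10, 0] 13,
  .rack [13, 8, 13] 2 [9, 6, 1] 6,
  .rack [1] 4 [10, 1, 7] 3,
  .rack [7, 1] 6 [1, 7, 6] 2,
  .rack [4] 2 [2, 4] 2,
  .rack [0] 3 [10, 0] 3,
  .rack [3] 0 [0, 3] 0,
  .rack [6, 3, 0] 13 [10, 13, 7] 13,
  .rack [1, 10, 1] 0 [7, 1, 7] 3,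
  .rack [2, 6, 0] 1 [3, 13, 11] 5,
  .rack [9, 13, 8] 0 [3, 13, 5] 4,
  .rack [2, 6, 1] 0 [3, 13, 0] 3,
  .rack [9, 4, 6] 2 [2, 4, 0] 6,
  .rack [7] 10 [0, 5] 4,
  .rack [4, 5, 6] 3 [3, 4, 5] 13,
  .rack [10, 0] 1 [1, 1, 10] 2,
  .rack [13, 5] 6 [6, 6, 5] 6,
  .rack [13] 7 [3, 6, 3] 0,
  .rack [4, 1] 13 [8, 11, 6] 2,
  .rack [12, 6, 2] 3 [10, 12, 13] 9,
  .st 0 1 2,
  .rack [10, 6, 5] 0 [2, 6, 11] 1,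
  .rack [2, 6, 3] 1 [9, 13, 10] 1,
  .rack [2, 4, 3] 6 [10, 9, 11] 6,
  .rack [1, 0] 6 [9, 0, 1] 6,
  .rack [1, 6, 9] 4 [2, 1, 13] 11,
  .rack [7] 3 [11, 7] 3,
  .rack [0] 1 [2, 0] 1,
  .rack [13] 5 [6, 6] 5,
  .rack [13, 10] 0 [6, 6, 10] 0,
  .rack [11] 1 [0, 11, 7] 1,
  .rack [10, 1] 0 [0, 9] 3,
  .rack [2] 3 [0, 3, 1] 0,
  .rack [13, 7, 13] 2 [6, 1, 6] 9,
  .rack [13, 4, 6] 1 [9, 5, 6] 4,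
  .rack [] 3 [4] 3,
  .rack [3, 6, 1] 13 [13, 10, 8] 13,
  .rack [6, 10] 2 [2, 10] 6,
  .rack [4, 0] 6 [0, 4] 6,
  .rack [12, 13] 3 [5, 5, 13] 3,
  .rack [7, 6] 11 [0, 0, 6] 11,
  .rack [11] 5 [2, 10, 0] 1,
  .rack [0, 13] 9 [13, 8, 6] 2,
  .rack [2, 1] 3 [5, 2] 3,
  .rack [10, 7] 6 [4, 7, 10] 6,
  .rack [4, 0, 12] 6 [0, 4, 12] 6,
  .rack [0] 3 [12, 7] 10,
  .rack [2] 3 [5, 3, 7] 1,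
  .rack [7, 2, 5] 13 [2, 7, 5] 13,
  .rack [1] 0 [8, 8] 0,
  .rack [1, 3] 6 [3, 5, 1] 6,
  .rack [7] 10 [9, 4, 3] 2,
  .rack [4, 8, 0] 6 [2, 4, 8] 6,
  .rack [8, 0] 13 [2, 0, 8] 13,
  .rack [2, 5, 13] 1 [8, 5, 6] 8,
  .rack [3, 7, 6] 3 [7, 11, 13] 3,
  .rack [11, 7] 6 [4, 7, 4] 6,
  .rack [3] 1 [7, 2, 5] 0,
  .rack [1] 6 [2, 1, 6] 2,
  .rack [4, 3, 0] 6 [0, 11, 3] 6,
  .rack [13] 5 [10, 2, 6] 1,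
  .rack [10, 4, 6] 1 [4, 10, 6] 1,
  .rack [13, 1, 6] 4 [7, 13, 2] 5,
  .rack [9] 4 [2, 3] 0,
  .rack [6, 7, 6] 2 [2, 13, 0] 6,
  .rack [1, 10] 2 [4, 12, 8] 0,
  .rack [5, 13, 2] 3 [13, 3, 7] 6,
  .rack [9, 8] 3 [8, 9] 3,
  .rack [5, 1, 6] 3 [10, 1, 13] 3,
  .rack [9] 3 [4, 9, 7] 3,
  .rack [11] 1 [5, 11, 10] 1,
  .rack [4, 13, 9] 3 [3, 4, 6] 9,
  .rack [3, 1] 0 [9, 9, 7] 3,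
  .rack [12, 3, 1] 0 [5, 1, 3] 0,
  .rack [12, 13, 3] 2 [13, 3, 0] 13,
  .rack [6, 3, 1] 0 [10, 13, 8] 7,
  .rack [8, 2, 6] 3 [2, 8, 6] 3,
  .rack [3] 6 [10, 10] 6,
  .rack [10, 7, 13] 4 [7, 4, 6] 11,
  .rack [3] 6 [2, 13, 3] 2,
  .rack [9, 6, 4] 13 [13, 2, 11] 13,
  .rack [0, 5, 7] 6 [12, 0, 6] 9,
  .rack [10, 13, 0] 6 [6, 3, 7] 6,
  .rack [0, 6] 2 [4, 9, 11] 6,
  .rack [13] 5 [3, 6] 12,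
  .rack [7, 3, 13] 8 [9, 7, 13] 12,
  .rack [7, 1] 3 [4, 7] 5,
  .rack [13, 11] 6 [6, 6, 11] 6,
  .rack [7, 4, 6] 5 [4, 7, 6] 5,
  .rack [9, 11, 6] 2 [11, 0, 13] 2,
  .rack [3, 7] 13 [11, 7, 6] 3,
  .rack [2, 11] 6 [9, 9, 11] 6,
  .rack [2, 11, 13] 1 [11, 7, 6] 8,
  .rack [8, 6, 0] 6 [0, 13, 8] 13]

/-- the words of the enumeration, part 1 -/
def tagL1 : List Tag := [
  .rack [12] 6 [1, 12, 8] 6,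
  .rack [10, 5, 1] 0 [0, 8, 5] 4,
  .rack [8, 6] 11 [1, 1, 6] 11,
  .rack [5, 3] 0 [3, 5] 0,
  .rack [5, 11, 3] 6 [12, 11, 12] 6,
  .rack [12, 2, 6] 0 [3, 12, 13] 11,
  .rack [8, 5, 13] 8 [5, 8, 13] 8,
  .rack [0] 8 [7, 12] 2,
  .rack [12, 8] 6 [9, 12, 13] 2,
  .rack [3, 1] 0 [4, 2] 3,
  .rack [9, 13, 5] 0 [3, 13, 1] 4,
  .rack [] 1 [12] 1,
  .rack [4, 2, 6] 1 [10, 4, 6] 12,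
  .rack [11, 8, 0] 6 [1, 9, 4] 13,
  .rack [2, 0] 5 [0, 2] 5,
  .rack [5, 1] 4 [10, 1] 4,
  .rack [9, 12, 6] 9 [12, 8, 13] 9,
  .rack [2, 12] 6 [1, 12, 13] 2,
  .rack [2, 5] 0 [9, 5, 1] 0,
  .rack [11, 10] 6 [7, 10, 0] 6,
  .rack [13] 8 [2, 2, 6] 1,
  .rack [1] 3 [3, 1] 3,
  .rack [0, 13] 7 [9, 0, 6] 0,
  .rack [2, 6, 3] 2 [6, 10, 6] 2,
  .rack [4, 12] 6 [12, 10, 4] 6,
  .rack [13, 3] 1 [9, 6] 5,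
  .rack [7, 1] 13 [0, 0, 1] 13,
  .rack [2, 1] 3 [3, 0] 8,
  .rack [12, 3, 1] 6 [1, 5, 3] 6,
  .rack [3, 1, 13] 4 [2, 12, 6] 7,
  .rack [5, 3, 0] 6 [3, 5, 0] 6,
  .rack [13, 7] 6 [8, 13, 0] 13,
  .rack [12, 1] 0 [1, 12] 0,
  .rack [5, 13, 10] 0 [3, 5, 6] 7,
  .rack [6, 1] 3 [10, 13, 8] 3,
  .rack [3, 6, 4] 1 [13, 8, 7] 3,
  .rack [1, 0] 6 [6, 7, 8] 6,
  .rack [0, 12, 13] 9 [8, 0, 12] 13,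
  .rack [9, 3, 6] 1 [13, 3, 13] 8,
  .inv 9,
  .rack [13, 4, 3] 2 [9, 6, 5] 4,
  .rack [10] 1 [2, 2] 5,
  .rack [3, 8, 6] 3 [12, 10, 8] 13,
  .rack [7, 1] 13 [9, 1, 7] 13,
  .rack [5, 1, 13] 0 [1, 5, 13] 0,
  .rack [4, 6] 8 [11, 11, 6] 8,
  .rack [6] 8 [13, 13] 8,
  .rack [7, 12] 13 [5, 0, 6] 2,
  .rack [11, 0, 13] 5 [0, 11, 13] 5,
  .rack [1, 11, 8] 6 [4, 1, 11] 6,
  .rack [13, 12] 13 [6, 6, 12] 13,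
  .rack [5, 2, 6] 4 [10, 5, 6] 7,
  .rack [5, 1] 4 [0, 1, 10] 2,
  .rack [5, 4] 1 [10, 4] 1,
  .rack [1] 3 [8, 8] 3,
  .rack [3, 6, 8] 0 [13, 10, 4] 2,
  .rack [9, 1, 6] 4 [13, 0, 6] 5,
  .rack [5, 1] 4 [4, 10] 8,
  .rack [10, 7] 1 [1, 9] 3,
  .rack [2, 11] 6 [11, 7, 13] 2,
  .rack [9, 4, 6] 2 [4, 7, 13] 2,
  .rack [2, 6] 1 [3, 13] 5,
  .rack [12, 9, 13] 4 [3, 12, 13] 7,
  .rack [11, 0, 6] 3 [4, 3, 0] 13,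
  .rack [8, 13] 8 [9, 8, 6] 1,
  .rack [1] 10 [11, 8] 3,
  .rack [10, 5] 6 [11, 5, 4] 6,
  .rack [13, 8] 6 [2, 6, 0] 13,
  .rack [7, 8] 6 [2, 8, 7] 6,
  .rack [6, 1, 6] 2 [2, 13, 8] 6,
  .rack [5, 1] 0 [12, 12, 1] 0,
  .rack [5, 11, 6] 3 [12, 11, 12] 13,
  .rack [10, 6] 8 [2, 6] 12,
  .rack [1, 13, 9] 3 [3, 9, 5] 13,
  .rack [7, 6, 3] 1 [6, 8, 13] 4,
  .rack [8, 13] 9 [13, 7, 6] 2,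
  .rack [10, 5, 1] 0 [1, 12, 10] 0,
  .rack [6, 3] 1 [2, 13, 10] 1,
  .rack [12, 10] 0 [11, 12, 3] 0,
  .rack [13, 2] 3 [9, 6] 3,
  .rack [3, 13, 11] 1 [9, 13, 7] 5,
  .rack [11, 13] 2 [0, 2, 11] 6,
  .rack [10] 1 [9] 5,
  .rack [2, 4, 13] 1 [6, 12, 13] 7,
  .rack [1, 10, 1] 0 [4, 12, 4] 2,
  .rack [13] 7 [6, 6] 7,
  .rack [3] 7 [10, 9] 4,
  .rack [10, 4, 6] 0 [4, 10, 6] 0,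
  .rack [6, 7, 13] 7 [1, 6, 0] 8,
  .rack [] 10 [9, 3] 2,
  .rack [12, 13] 11 [3, 12, 6] 4,
  .rack [10, 6, 4] 1 [2, 6, 0] 5,
  .rack [6] 7 [13, 13] 7,
  .rack [0, 8] 6 [6, 1, 7] 6,
  .rack [4, 12] 13 [12, 4, 13] 3,
  .rack [9, 6, 4] 6 [13, 2, 11] 6,
  .rack [8] 6 [1, 1] 6,
  .rack [7, 6] 3 [0, 0, 6] 3,
  .rack [12, 4] 6 [5, 5, 4] 6,
  .rack [5, 9, 13] 0 [3, 5, 13] 4,
  .rack [9, 13] 1 [13, 9, 13] 1,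
  .rack [12, 1] 0 [9, 12, 8] 0,
  .rack [11, 0, 13] 1 [13, 5, 6] 4,
  .rack [13] 12 [3, 6] 5,
  .rack [11, 10] 1 [3, 11, 3] 1,
  .rack [5, 9] 4 [9, 8, 5] 4,
  .rack [5, 1] 4 [3, 1, 7] 3,
  .rack [10, 5] 0 [11, 5] 0,
  .rack [13, 1] 13 [6, 6, 1] 13,
  .rack [2, 11, 8] 6 [1, 4, 0] 13,
  .rack [3] 1 [1, 3] 1,
  .rack [9, 6] 4 [6, 10, 13] 0,
  .rack [13, 9] 3 [3, 6] 9,
  .rack [11, 8] 6 [4, 4, 8] 6,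
  .rack [4, 3] 2 [2, 7] 10,
  .rack [4, 0] 1 [5, 4, 3] 2,
  .rack [9, 4] 6 [4, 7, 6] 2,
  .rack [4, 0] 1 [2, 4] 1,
  .rack [9, 13] 3 [2, 6, 9] 3,
  .rack [0, 13] 8 [9, 0, 6] 1,
  .rack [0, 8] 4 [4, 1, 3] 0,
  .rack [5] 0 [4, 10, 5] 0,
  .rack [11, 12, 3] 6 [12, 11, 10] 6,
  .rack [6, 3] 0 [2, 13, 10] 0,
  .rack [10] 2 [3, 3] 2,
  .rack [4, 6, 10] 2 [6, 10, 1] 13,
  .rack [11] 5 [5, 11] 5,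
  .rack [6, 4] 2 [2, 13, 8] 0,
  .rack [13] 9 [10, 9, 13] 3,
  .rack [13] 11 [2, 3, 13] 0,
  .rack [6] 11 [2, 13, 3] 0,
  .rack [0] 1 [12, 12] 2,
  .rack [8, 5, 6] 2 [5, 8, 6] 2,
  .rack [10, 6] 0 [3, 3, 6] 0,
  .rack [9, 8, 4] 6 [8, 9, 4] 6,
  .rack [10, 5] 0 [5, 10] 0,
  .rack [11, 13] 2 [2, 11, 0] 6,
  .rack [3, 13] 8 [13, 10, 6] 1,
  .rack [12, 6] 3 [5, 5, 6] 3,
  .rack [8, 4, 6] 2 [0, 8, 4] 6,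
  .rack [9, 10, 5] 0 [11, 12, 8] 0,
  .rack [3, 0] 1 [4, 2, 5] 0,
  .rack [10, 0] 1 [9, 11] 5,
  .rack [3, 7] 13 [7, 11, 6] 3,
  .rack [9, 11, 8] 6 [0, 1, 4] 13,
  .rack [12, 8] 0 [9, 12] 0,
  .rack [5, 9, 13] 1 [3, 5, 13] 12,
  .rack [5, 1] 0 [7, 12, 8] 0,
  .rack [9, 10, 5] 0 [4, 1, 10] 2,
  .rack [3] 1 [8, 3] 1,
  .rack [2, 11, 6] 1 [3, 7, 13] 5,
  .rack [13, 11, 6] 8 [9, 12, 6] 11,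
  .inv 0,
  .rack [3, 6] 0 [9, 10, 13] 0,
  .rack [13, 8, 3] 2 [9, 6, 1] 10,
  .rack [7] 5 [8, 12, 4] 2,
  .rack [0, 1] 6 [2, 1, 0] 6,
  .rack [9, 13, 1] 4 [3, 13, 7] 5,
  .rack [0] 3 [4, 0] 3,
  .rack [11, 0, 13] 4 [0, 11, 13] 4,
  .rack [2, 5] 6 [9, 9, 5] 6,
  .rack [12, 8] 0 [1, 12, 1] 0,
  .rack [11, 0, 6] 3 [3, 4, 0] 13,
  .rack [2, 11, 13] 1 [7, 11, 6] 8,
  .rack [12, 4] 2 [8, 7, 10] 1,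
  .rack [11, 5, 7] 6 [5, 7, 10] 6,
  .rack [11] 5 [12, 11] 5,
  .rack [10, 8] 13 [12, 8, 13] 3,
  .rack [6, 8] 6 [9, 13, 7] 13,
  .rack [7, 10, 6] 2 [2, 7, 3] 6,
  .rack [11] 1 [7, 8, 10] 0,
  .rack [6, 10] 1 [10, 13, 2] 5,
  .rack [4, 13] 11 [3, 4, 6] 4,
  .rack [6, 9] 4 [2, 13] 11,
  .rack [1] 4 [4] 8,
  .rack [5, 6, 9] 3 [2, 10, 1] 13,
  .rack [9, 10, 4] 6 [3, 2, 11] 6,
  .rack [10, 5] 0 [3, 5, 3] 0,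
  .rack [10, 6] 1 [9, 13, 3] 1,
  .rack [7] 10 [8, 4, 3] 1,
  .rack [13, 4, 6] 8 [9, 5, 6] 11,
  .rack [] 0 [4] 0,
  .rack [2, 12, 6] 1 [3, 1, 13] 5,
  .rack [9, 5] 6 [2, 2, 5] 6,
  .rack [6, 0] 8 [2, 13, 7] 1,
  .rack [0, 8] 6 [9, 8, 0] 6,
  .rack [10, 5] 0 [4, 5, 3] 0,
  .rack [1, 10, 1] 0 [5, 8, 10] 0,
  .rack [8, 10] 0 [5, 10, 8] 0,
  .rack [5, 3] 0 [4, 5] 0,
  .rack [2, 6, 3] 0 [13, 3, 13] 0,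
  .rack [2, 11, 3] 6 [10, 9, 4] 6,
  .rack [0, 13] 2 [2, 0] 6,
  .rack [2, 6] 0 [6, 2, 6] 0,
  .rack [8] 7 [10, 2, 0] 3,
  .rack [11, 0] 6 [10, 0, 3] 6,
  .rack [9, 6, 12] 0 [13, 2, 0] 5,
  .rack [9] 4 [11, 9] 4,
  .rack [7, 4] 13 [4, 7] 13,
  .rack [3] 0 [11, 3] 0,
  .rack [6, 9] 3 [10, 13, 2] 3,
  .rack [5, 9, 11] 6 [7, 12, 4] 13,
  .rack [12] 2 [8, 12] 2,
  .rack [3, 1, 13] 9 [9, 10, 8] 13,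
  .rack [8, 13, 3] 0 [13, 7, 6] 12,
  .rack [1, 7] 6 [13, 0, 8] 6,
  .rack [4, 12] 2 [1, 9] 4,
  .rack [5, 1] 0 [0, 10] 8,
  .rack [13] 9 [3, 6, 2] 3,
  .inv 10,
  .rack [2, 6, 1] 0 [9, 13, 8] 7,
  .rack [3, 1] 13 [1, 12, 6] 3,
  .rack [12, 4, 3] 6 [11, 12, 11] 6,
  .rack [8, 7] 6 [6, 0, 1] 6,
  .rack [10, 5, 0] 6 [5, 10, 0] 6,
  .rack [0, 10, 13] 1 [6, 1, 13] 11,
  .rack [12, 11] 6 [5, 5, 11] 6,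
  .rack [10, 0, 13] 5 [0, 11, 6] 12,
  .rack [4, 5, 1] 0 [10, 0, 8] 4,
  .rack [7, 6] 9 [9, 7] 13,
  .rack [2, 6, 3] 0 [6, 2, 6] 4,
  .rack [7, 2, 12] 6 [8, 5, 0] 13,
  .rack [5] 4 [3, 5] 4,
  .rack [7] 3 [0, 0] 3,
  .rack [1, 13] 1 [9, 1, 6] 8,
  .rack [1, 0, 6] 9 [2, 0, 1] 13,
  .rack [9, 13, 7] 1 [10, 6, 1] 3,
  .rack [3] 1 [12, 3] 1,
  .rack [9, 7, 13] 4 [7, 9, 13] 4,
  .rack [7, 1, 6] 2 [1, 7, 13] 2,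
  .rack [9, 13] 1 [10, 6] 5,
  .rack [12, 6, 3] 2 [10, 12, 13] 2,
  .rack [2, 0, 5] 6 [1, 12, 7] 13,
  .rack [2, 0] 3 [0, 2] 3,
  .rack [12, 1] 0 [0, 2, 5] 0,
  .rack [9, 8, 11] 6 [4, 1, 7] 13,
  .rack [2, 12, 6] 8 [3, 1, 13] 12,
  .rack [3] 1 [10, 10] 1,
  .rack [11, 2, 6] 3 [10, 11, 6] 9,
  .rack [3, 8] 0 [5, 8, 3] 0,
  .rack [6, 7, 13] 0 [1, 6, 0] 1,
  .rack [2, 6, 0] 1 [10, 6, 1] 10,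
  .rack [12, 1, 6] 2 [9, 12, 8] 6,
  .rack [6, 12, 13] 0 [4, 0, 6] 1,
  .rack [5, 3] 0 [12, 12, 3] 0,
  .rack [12, 8, 6] 5 [8, 12, 6] 5,
  .rack [0, 6, 3] 2 [10, 2, 4] 6,
  .rack [8, 7] 3 [9, 12, 3] 0,
  .rack [8, 13] 2 [7, 8, 0] 6,
  .rack [7, 2, 6] 0 [9, 7, 13] 7,
  .rack [13, 12, 6] 7 [9, 4, 6] 12,
  .rack [13] 7 [9, 6] 0,
  .rack [11, 7, 13] 5 [3, 7, 6] 12,
  .rack [0, 12, 7] 6 [5, 0, 12] 6,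
  .rack [9, 12] 6 [12, 8, 6] 2,
  .rack [9, 10, 5] 6 [3, 2, 12] 6,
  .rack [1] 10 [0, 12, 10] 0,
  .rack [2, 13, 1] 3 [6, 9, 8] 3,
  .rack [5, 1] 0 [1, 5] 0,
  .rack [1, 13] 2 [5, 2, 12] 6,
  .rack [12, 7, 8] 6 [9, 0, 5] 13,
  .rack [2, 0] 3 [9, 10, 1] 0,
  .rack [6, 8] 7 [2, 13, 1] 0,
  .rack [12, 11] 6 [11, 12, 10] 6,
  .rack [2, 6, 3] 1 [6, 10, 6] 8,
  .cube 6,
  .rack [13, 8] 0 [9, 6, 4] 2,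
  .rack [0, 6] 7 [2, 0, 13] 0,
  .rack [13, 11] 13 [6, 6, 11] 13,
  .rack [13, 8, 0] 13 [6, 7, 1] 13,
  .rack [13, 10, 5] 0 [3, 6, 7] 5,
  .rack [5, 1, 13] 0 [13, 4, 6] 5,
  .rack [] 2 [7] 2,
  .rack [4] 1 [8, 11] 1,
  .rack [8, 6, 3] 0 [6, 0, 13] 5,
  .rack [13, 10, 7] 1 [3, 6, 0] 8,
  .rack [8, 6, 3] 2 [10, 2, 5] 6,
  .rack [3] 0 [4, 3] 0,
  .rack [7, 12] 6 [5, 0, 6] 9,
  .rack [8, 6] 0 [6, 0, 13] 1,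
  .rack [13, 10] 1 [3, 6] 8,
  .rack [4, 3, 6] 1 [3, 4, 6] 1,
  .rack [4, 6] 0 [11, 11, 6] 0,
  .rack [6] 12 [13, 13] 12,
  .rack [7, 10] 1 [9, 7] 5,
  .rack [3, 7] 5 [2, 11, 10] 1,
  .rack [12] 13 [8, 12, 1] 13,
  .rack [5, 1] 0 [2, 2, 5] 0,
  .rack [2, 12, 13] 0 [12, 1, 6] 7,
  .rack [2, 13] 5 [10, 13, 3] 1,
  .rack [1, 3] 0 [2, 1] 4,
  .rack [4, 13, 3] 2 [9, 3, 0] 6,
  .rack [11, 0, 6] 0 [0, 11, 6] 0,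
  .rack [0, 13] 3 [10, 4, 0] 13,
  .rack [6] 0 [13, 13] 0,
  .rack [8, 10] 6 [5, 10, 8] 6,
  .rack [12, 10] 0 [9, 4, 3] 1,
  .rack [5, 1, 4] 6 [1, 5, 4] 6,
  .rack [5, 1, 6] 4 [1, 5, 6] 4,
  .rack [7, 13, 9] 3 [3, 9, 4] 13]

/-- the words of the enumeration, part 2 -/
def tagL2 : List Tag := [
  .rack [0, 8] 4 [2, 8, 3] 0,
  .rack [] 9 [5, 7] 1,
  .rack [5, 3, 0] 13 [3, 5, 0] 13,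
  .rack [8, 13, 2] 3 [9, 8, 6] 3,
  .rack [0, 1] 6 [1, 0, 13] 2,
  .rack [8, 3] 2 [2, 11] 5,
  .rack [9] 4 [1, 0, 8] 4,
  .rack [3, 0] 1 [1, 3] 2,
  .rack [8] 0 [9, 8] 0,
  .rack [11] 6 [0, 11, 7] 6,
  .rack [3, 13, 4] 2 [9, 13, 5] 4,
  .rack [5, 13] 4 [12, 12, 13] 4,
  .rack [3] 0 [7, 3] 0,
  .rack [10, 4, 8] 13 [4, 10, 8] 13,
  .rack [0, 8, 6] 2 [2, 8, 0] 6,
  .rack [12, 3] 0 [8, 3, 1] 0,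
  .rack [5, 6] 3 [10, 5, 13] 3,
  .rack [4] 1 [9, 4, 0] 1,
  .rack [0, 10] 1 [5, 4] 2,
  .rack [12, 10] 0 [5, 10, 5] 0,
  .rack [12, 1] 13 [3, 1, 13] 3,
  .rack [0, 3, 0] 6 [10, 7, 10] 6,
  .rack [5] 6 [12, 12] 6,
  .rack [13, 3] 2 [2, 10, 6] 2,
  .rack [10, 6] 0 [6, 9, 13] 4,
  .rack [5] 13 [10, 5, 6] 3,
  .rack [2, 6] 0 [13, 2, 6] 0,
  .rack [5] 0 [1, 2, 5] 0,
  .rack [5, 11, 6] 3 [4, 5, 4] 13,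
  .rack [] 11 [8, 4] 1,
  .rack [0] 8 [11, 1, 3] 0,
  .rack [2] 5 [5, 2] 5,
  .rack [7, 12] 6 [0, 0, 12] 6,
  .rack [3, 7] 5 [11, 7] 5,
  .rack [6, 8, 6] 2 [9, 6, 7] 13,
  .rack [8, 2, 6] 0 [2, 8, 6] 0,
  .rack [5] 4 [0] 10,
  .rack [12, 3, 6] 0 [3, 12, 6] 0,
  .rack [0, 10, 6] 2 [2, 0, 3] 6,
  .rack [13] 12 [6, 6] 12,
  .rack [3, 7] 1 [12, 2] 3,
  .rack [10, 8, 13] 4 [12, 8, 6] 11,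
  .rack [1, 10, 1] 6 [3, 8, 3] 6,
  .rack [11] 5 [8] 10,
  .rack [2, 6, 2] 3 [3, 13, 2] 3,
  .rack [7] 3 [9, 3, 1] 0,
  .rack [7, 4, 6] 0 [4, 7, 6] 0,
  .rack [9, 13] 0 [10, 6] 11,
  .rack [10, 4] 2 [5, 4, 12] 2,
  .rack [] 13 [9, 13] 9,
  .rack [7] 1 [0, 0] 1,
  .rack [0, 6] 3 [3, 11, 0] 13,
  .rack [7, 2, 6] 3 [2, 7, 6] 3,
  .rack [3, 7, 5] 6 [7, 5, 11] 6,
  .rack [6] 7 [10, 13, 10] 0,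
  .rack [13, 1, 6] 4 [9, 7, 6] 12,
  .rack [8, 5, 6] 0 [5, 8, 6] 0,
  .rack [11, 7, 8] 6 [1, 2, 4] 13,
  .rack [10, 13] 1 [2, 3, 6] 1,
  .rack [1, 0, 6] 9 [9, 1, 0] 13,
  .rack [11, 2, 6] 0 [10, 11, 6] 4,
  .rack [8, 13] 9 [2, 8] 13,
  .rack [9] 4 [5, 7, 1] 3,
  .rack [3, 13] 8 [9, 13] 12,
  .rack [11] 5 [4, 1] 3,
  .rack [9, 4, 6] 9 [11, 2, 11] 13,
  .rack [3, 6, 1] 0 [13, 9, 7] 3,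
  .rack [3, 7] 1 [11, 12, 1] 0,
  .rack [8, 6, 8] 6 [1, 6, 1] 13,
  .rack [7, 13] 2 [2, 7] 6,
  .rack [0, 5] 6 [12, 7, 6] 9,
  .rack [9, 8] 3 [3, 2, 1] 3,
  .rack [5, 1] 4 [9, 5, 3] 0,
  .rack [12, 8, 7] 6 [0, 5, 1] 13,
  .rack [4, 6] 3 [3, 4] 13,
  .rack [2, 5, 6] 1 [3, 8, 13] 5,
  .rack [7] 5 [1, 7, 10] 1,
  .rack [6, 11] 5 [10, 13, 1] 10,
  .inv 3,
  .rack [10, 5, 13] 1 [5, 10, 13] 1,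
  .rack [12, 3] 0 [11, 12] 0,
  .rack [11, 7, 1] 6 [7, 11, 1] 6,
  .rack [6, 8] 13 [7, 6, 1] 6,
  .rack [9, 5, 6] 2 [1, 5, 13] 2,
  .rack [4, 0, 6] 5 [0, 4, 6] 5,
  .rack [4, 12] 2 [9, 1] 4,
  .rack [13] 0 [9, 6] 7,
  .rack [6, 0] 1 [2, 13, 12] 2,
  .rack [2] 5 [4, 8, 5] 4,
  .rack [13, 5] 0 [6, 6, 5] 0,
  .rack [1, 7] 3 [2, 7, 1] 3,
  .rack [9, 4, 6] 9 [4, 7, 13] 9,
  .rack [13, 10, 0] 13 [3, 6, 7] 13,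
  .rack [3, 6] 2 [13, 10] 2,
  .rack [6, 4, 6] 3 [10, 13, 11] 13,
  .rack [2, 0] 5 [8, 0] 5,
  .rack [9, 11, 6] 2 [4, 2, 4] 6,
  .rack [6, 12, 8] 0 [2, 13, 0] 5,
  .rack [11, 6] 3 [3, 11] 13,
  .rack [2, 4] 6 [4, 0, 13] 2,
  .rack [8] 7 [4, 1] 0,
  .rack [12, 3, 13] 1 [3, 12, 13] 1,
  .rack [11, 0] 13 [10, 0, 6] 3,
  .rack [13, 5] 4 [6, 6, 5] 4,
  .rack [12, 8] 13 [10, 8, 6] 3,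
  .rack [7, 1] 3 [9, 1, 7] 3,
  .rack [11, 0, 1] 6 [0, 11, 1] 6,
  .rack [3] 0 [10, 10] 0,
  .rack [11, 3, 1] 6 [3, 11, 1] 6,
  .rack [10] 2 [5, 1, 10] 2,
  .rack [8, 13] 2 [2, 8] 6,
  .rack [9, 8, 13] 0 [8, 9, 13] 0,
  .rack [13, 10, 0] 1 [3, 6, 12] 2,
  .rack [8] 6 [12, 8, 5] 6,
  .rack [4] 2 [9, 4] 2,
  .rack [12, 1, 6] 2 [1, 12, 6] 2,
  .rack [10, 8, 6] 9 [2, 3, 1] 13,
  .rack [0, 6, 1] 6 [7, 6, 8] 13,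
  .rack [1, 13] 9 [2, 1] 13,
  .rack [4, 6, 10] 2 [2, 10, 7] 6,
  .rack [11, 7] 6 [7, 11] 6,
  .rack [4, 0] 6 [11, 11, 0] 6,
  .rack [4, 5] 6 [3, 5, 4] 6,
  .rack [1, 10] 0 [2, 4, 0] 1,
  .rack [0, 13, 3] 1 [13, 8, 6] 11,
  .rack [11] 1 [2, 8, 10] 0,
  .rack [4, 5] 6 [5, 4, 3] 6,
  .rack [9, 12, 6] 2 [1, 2, 12] 6,
  .rack [2, 0] 3 [10, 9, 7] 3,
  .rack [12, 9, 13] 0 [10, 12, 6] 11,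
  .rack [7, 13] 1 [9, 7, 6] 8,
  .rack [3, 13, 7] 1 [9, 13, 1] 3,
  .rack [1] 0 [7, 1] 0,
  .rack [6, 10] 1 [2, 13] 12,
  .rack [0, 10, 0] 6 [10, 7, 4] 6,
  .inv 4,
  .rack [4, 8, 6] 2 [11, 1, 4] 13,
  .rack [2, 6, 8] 0 [10, 6, 5] 4,
  .rack [3, 7] 5 [12, 3] 7,
  .rack [8, 13] 2 [13, 7, 6] 9,
  .rack [9, 4, 13] 8 [10, 7, 6] 12,
  .rack [8, 5, 6] 0 [6, 4, 13] 8,
  .rack [11, 0, 6] 3 [10, 0, 13] 3,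
  .rack [13, 3] 0 [3, 6, 9] 4,
  .rack [11, 10] 1 [5, 11, 3] 1,
  .rack [11, 13] 11 [3, 11, 6] 4,
  .rack [0, 8, 6] 2 [1, 0, 1] 6,
  .rack [3, 2, 5] 6 [9, 12, 10] 6,
  .rack [11, 9, 13] 1 [3, 11, 13] 12,
  .rack [10] 0 [3, 3] 0,
  .rack [10, 1, 13] 5 [5, 1, 6] 12,
  .rack [13, 8] 0 [6, 6, 8] 0,
  .rack [3, 8] 13 [8, 5, 6] 3,
  .rack [8, 3] 2 [5, 3, 0] 1,
  .rack [5, 6, 11] 6 [1, 6, 4] 13,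
  .rack [10, 7] 1 [4, 7, 10] 1,
  .rack [8, 3] 2 [12, 3] 2,
  .rack [9, 13] 0 [13, 9, 13] 0,
  .rack [6, 12, 13] 0 [0, 4, 6] 1,
  .rack [12, 6, 10] 2 [2, 10, 8] 6,
  .rack [5, 1] 6 [10, 1, 3] 6,
  .rack [11, 0, 8] 6 [1, 7, 4] 13,
  .rack [7, 4] 6 [4, 7] 6,
  .rack [6] 1 [13, 13] 1,
  .rack [13, 5, 6] 7 [9, 11, 6] 12,
  .rack [5, 9] 4 [0, 11] 5,
  .rack [11, 12, 3] 6 [3, 11, 12] 6,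
  .rack [13, 10, 1] 0 [3, 6, 8] 7,
  .rack [2, 11, 6] 3 [10, 9, 4] 13,
  .rack [0, 13] 2 [13, 8, 6] 9,
  .rack [2, 6] 0 [10, 6] 4,
  .rack [0, 10, 0] 6 [7, 11, 10] 6,
  .rack [8] 6 [9, 8, 13] 2,
  .rack [8, 4, 1] 6 [11, 8, 4] 6,
  .rack [2, 5] 0 [5, 8] 0,
  .rack [0, 10] 6 [4, 10, 0] 6,
  .rack [12] 2 [1, 12] 2,
  .rack [12] 2 [7] 8,
  .rack [6, 12, 6] 3 [10, 13, 5] 13,
  .rack [1] 10 [7, 5, 3] 0,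
  .rack [2, 11, 13] 1 [6, 5, 13] 7,
  .rack [8] 0 [2, 8] 0,
  .rack [13, 0, 13] 2 [2, 13, 1] 13,
  .rack [7, 4, 6] 1 [4, 7, 6] 1,
  .rack [7, 1] 3 [1, 9, 7] 3,
  .rack [9, 12, 13] 8 [10, 8, 6] 12,
  .rack [8, 2, 6] 0 [9, 8, 13] 7,
  .rack [1, 13] 8 [9, 1, 6] 1,
  .rack [13, 0] 8 [9, 6, 7] 1,
  .rack [12, 8, 6] 1 [8, 12, 6] 1,
  .rack [12, 7, 13] 2 [0, 5, 13] 9,
  .rack [13] 2 [2] 6,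
  .rack [2, 6, 8] 4 [10, 6, 0] 5,
  .rack [5, 6, 9] 3 [6, 10, 0] 6,
  .rack [5, 1, 6] 8 [1, 5, 6] 8,
  .rack [9, 0, 13] 0 [0, 9, 13] 0,
  .rack [12, 13] 0 [5, 5, 13] 0,
  .rack [11, 6, 12] 6 [0, 6, 5] 13,
  .rack [1] 0 [4] 9,
  .rack [12, 8, 6] 3 [10, 8, 13] 3,
  .rack [7, 10, 6] 0 [2, 7, 6] 11,
  .rack [8, 4, 1] 6 [1, 11, 6] 9,
  .rack [11, 1] 6 [4, 4, 1] 6,
  .rack [10, 0, 6] 4 [9, 11, 13] 7,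
  .rack [12, 1, 13] 5 [1, 12, 13] 5,
  .rack [11, 3] 1 [5, 11] 1,
  .rack [] 3 [11] 3,
  .rack [9, 4, 13] 1 [10, 7, 6] 5,
  .rack [7, 13, 8] 7 [13, 1, 6] 8,
  .rack [13] 8 [3, 6, 3] 1,
  .rack [12, 8] 0 [10, 8, 3] 0,
  .rack [8, 5] 4 [4, 1, 7] 3,
  .rack [9, 13, 0] 1 [2, 6, 12] 2,
  .rack [2, 6] 1 [10, 6] 12,
  .rack [12, 3, 13] 8 [3, 12, 13] 8,
  .rack [12, 1, 6] 2 [2, 12, 13] 2,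
  .rack [9, 4] 6 [7, 4, 6] 2,
  .rack [11, 13, 3] 2 [9, 3, 7] 6,
  .rack [4, 5, 3] 6 [3, 4, 5] 6,
  .rack [5] 0 [11, 5, 3] 0,
  .rack [] 1 [5] 1,
  .rack [12, 3, 1] 6 [10, 1, 10] 6,
  .rack [11, 7] 1 [7, 11] 1,
  .rack [13] 11 [6, 6] 11,
  .rack [10, 6, 7] 1 [2, 6, 1] 3,
  .rack [6, 8] 0 [2, 13, 4] 2,
  .rack [9, 6] 4 [2, 2, 6] 4,
  .rack [3] 7 [9, 10] 0,
  .rack [12, 10] 6 [10, 12] 6,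
  .rack [6, 2] 3 [13, 13, 2] 3,
  .rack [11, 3, 13] 0 [3, 11, 13] 0,
  .rack [13, 0, 6] 0 [1, 13, 12] 2,
  .rack [7, 5, 6] 2 [8, 7, 5] 6,
  .rack [11, 7] 1 [3, 7, 10] 1,
  .rack [12] 2 [5, 0] 1,
  .rack [2, 4, 13] 1 [0, 4, 6] 8,
  .rack [5, 9] 4 [4, 0, 1] 3,
  .rack [12, 1, 6] 11 [1, 12, 6] 11,
  .rack [9, 6] 4 [3, 6, 10] 0,
  .rack [11, 12, 3] 6 [10, 12, 11] 6,
  .rack [2, 12, 13] 0 [6, 11, 13] 1,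
  .rack [9, 13] 4 [3, 13] 7,
  .rack [5, 13] 12 [3, 5, 6] 5,
  .rack [8, 11, 13] 1 [4, 1, 13] 8,
  .rack [5, 1] 4 [1, 5] 4,
  .rack [2, 0] 5 [5, 8] 7,
  .rack [1, 7] 3 [4, 2] 5,
  .rack [9, 6, 5] 6 [13, 2, 12] 6,
  .rack [10] 6 [3, 3] 6,
  .rack [11, 0, 6] 3 [0, 11, 6] 3,
  .rack [10, 8] 0 [7, 10] 2,
  .rack [11, 10] 6 [10, 11] 6,
  .rack [0, 6] 1 [6, 1, 13] 7,
  .rack [2] 5 [7, 2, 0] 5,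
  .rack [11, 12] 6 [3, 12, 11] 6,
  .rack [7] 1 [5, 0] 8,
  .rack [7] 5 [11, 7, 1] 3,
  .rack [10, 0] 1 [2, 8, 3] 2,
  .rack [1, 6, 7] 6 [8, 6, 0] 13,
  .rack [7, 13] 1 [13, 1, 6] 0,
  .rack [0, 6] 1 [7, 7, 6] 1,
  .rack [9, 8, 6] 4 [8, 9, 6] 4,
  .rack [2, 12] 6 [9, 9, 12] 6,
  .rack [10] 2 [6, 3, 6] 2,
  .rack [2, 6, 3] 2 [9, 3, 6] 2,
  .rack [7, 4, 12] 13 [4, 7, 12] 13,
  .rack [1] 3 [2, 10, 7] 1,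
  .rack [4, 5, 3] 6 [12, 4, 12] 6,
  .rack [9, 5] 6 [5, 1, 6] 2,
  .rack [5, 3] 0 [7, 12, 10] 0,
  .rack [10, 6, 0] 1 [2, 6, 11] 5,
  .rack [11, 7] 13 [3, 7, 13] 3,
  .rack [2] 5 [12, 2] 5,
  .rack [3, 0, 13] 4 [2, 4, 6] 7,
  .rack [12, 7] 6 [5, 5, 7] 6,
  .rack [13] 4 [10, 9, 13] 0,
  .st 5 2 1,
  .rack [7, 6] 3 [4, 3, 7] 13,
  .rack [11, 12, 6] 3 [12, 11, 13] 3,
  .rack [10, 5, 6] 1 [5, 10, 6] 1,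
  .rack [6] 4 [3, 2, 6] 0,
  .rack [13, 1, 13] 2 [6, 0, 6] 9,
  .rack [2, 5, 13] 0 [6, 4, 13] 1,
  .rack [11] 1 [1, 4] 1,
  .rack [9, 5, 13] 1 [10, 1, 6] 5,
  .rack [2, 6, 3] 2 [3, 13, 3] 2,
  .rack [3, 1] 0 [7, 2] 3,
  .rack [4, 3] 2 [7, 3] 2,
  .rack [0, 6, 9] 4 [2, 0, 13] 11,
  .rack [3, 6] 1 [6, 2, 13] 5,
  .rack [8] 0 [11] 2,
  .rack [9, 4, 6] 1 [13, 12, 6] 11,
  .rack [7, 5, 0] 6 [12, 7, 5] 6,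
  .rack [13, 8, 13] 2 [2, 13, 0] 13,
  .rack [5] 4 [11, 5] 4,
  .rack [12, 11] 13 [11, 12, 13] 3,
  .rack [12, 4, 6] 3 [3, 12, 4] 13,
  .rack [2, 5] 0 [8, 5] 0,
  .rack [2, 5, 6] 3 [10, 9, 12] 13,
  .rack [10, 5] 6 [5, 10] 6]

/-- the words of the enumeration, part 3 -/
def tagL3 : List Tag := [
  .rack [4, 5, 1] 0 [2, 4, 3] 1,
  .rack [2, 6, 8] 0 [9, 13, 4] 2,
  .rack [13, 8] 4 [6, 6, 8] 4,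
  .rack [2, 4, 6] 8 [3, 0, 13] 12,
  .sub 1,
  .rack [2, 6, 3] 0 [3, 13, 3] 0,
  .rack [13, 2] 3 [3, 6, 9] 3,
  .rack [2] 3 [4, 2, 0] 3,
  .rack [13, 8, 0] 6 [6, 7, 1] 6,
  .rack [6, 0, 13] 0 [8, 6, 7] 1,
  .rack [8, 5, 13] 4 [5, 8, 13] 4,
  .rack [2, 6, 3] 0 [10, 6, 9] 4,
  .rack [7] 5 [0, 0] 5,
  .rack [3, 13, 5] 0 [9, 13, 11] 1,
  .rack [4, 5, 1] 0 [0, 5, 1] 4,
  .rack [7, 4, 12] 6 [4, 7, 12] 6,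
  .rack [10, 5, 1] 0 [11, 2, 0] 5,
  .rack [9, 11, 6] 2 [2, 11, 7] 6,
  .rack [9, 1, 4] 6 [11, 8, 0] 13,
  .rack [2] 5 [3] 8,
  .rack [3, 7, 6] 3 [4, 10, 7] 13,
  .rack [2, 6, 3] 1 [13, 3, 13] 1,
  .rack [0, 12, 0] 6 [12, 0, 12] 6,
  .rack [2, 6, 3] 2 [10, 6, 10] 2,
  .rack [5, 4] 1 [12, 4, 3] 1,
  .rack [12, 3] 6 [3, 12] 6,
  .rack [9, 13] 0 [3, 13] 4,
  .rack [6, 10, 0] 1 [2, 13, 1] 10,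
  .rack [5, 1] 13 [1, 5] 13,
  .rack [12, 1] 0 [7, 3] 1,
  .rack [7, 1] 6 [6, 8, 0] 6,
  .rack [1, 10] 0 [4, 7] 1,
  .rack [13] 12 [2, 3, 13] 8,
  .rack [] 0 [2] 0,
  .rack [0, 10, 6] 1 [2, 0, 6] 5,
  .rack [3, 13, 1] 0 [9, 13, 0] 3,
  .rack [8, 5] 4 [5, 8] 4,
  .rack [8, 7] 13 [6, 0, 1] 13,
  .rack [4, 5] 6 [11, 11, 5] 6,
  .rack [10, 8] 0 [12, 8, 10] 0,
  .rack [11, 10, 0] 6 [7, 10, 7] 6,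
  .rack [10, 7, 13] 5 [4, 7, 6] 12,
  .rack [2, 13, 11] 1 [6, 4, 12] 2,
  .rack [5, 9] 4 [10, 0] 5,
  .rack [7, 13] 9 [13, 1, 6] 2,
  .rack [9, 13, 7] 1 [2, 6, 0] 8,
  .rack [2, 5] 6 [5, 8, 13] 2,
  .rack [6] 5 [13, 13] 5,
  .rack [6, 7] 10 [10, 13, 5] 4,
  .rack [4, 12] 2 [7, 1] 4,
  .rack [11, 3] 1 [3, 11] 1,
  .rack [2] 3 [11, 3, 1] 0,
  .rack [7, 10] 1 [2, 12, 4] 2,
  .rack [8, 0] 6 [1, 1, 0] 6,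
  .rack [10] 2 [2, 3] 2,
  .rack [2, 5, 6] 8 [3, 8, 13] 12,
  .rack [2, 6, 7] 3 [10, 6, 8] 7,
  .rack [9, 4] 6 [2, 2, 4] 6,
  .rack [13] 3 [3, 6] 3,
  .rack [7, 1] 3 [0, 0, 1] 3,
  .rack [13, 7] 3 [3, 6, 0] 3,
  .cube 2,
  .rack [0, 3, 0] 6 [11, 3, 7] 6,
  .rack [9, 7] 3 [10, 8] 7,
  .rack [12, 8] 6 [8, 12] 6,
  .rack [8, 0, 13] 0 [0, 8, 6] 7,
  .rack [12, 9, 13] 0 [3, 12, 13] 4,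
  .rack [0, 6, 3] 1 [6, 1, 13] 4,
  .rack [9, 11] 6 [2, 2, 11] 6,
  .rack [10, 0, 13] 5 [11, 0, 6] 12,
  .rack [8, 3] 2 [9, 10, 0] 1,
  .rack [6, 1] 6 [13, 13, 1] 6,
  .rack [9] 3 [7, 10, 1] 0,
  .rack [1, 13, 2] 5 [9, 1, 6] 12,
  .rack [5, 11] 6 [11, 5, 3] 6,
  .st 4 5 3,
  .rack [9, 1, 13] 1 [2, 1, 6] 8,
  .rack [7, 4, 1] 6 [8, 11, 0] 13,
  .rack [4, 0, 6] 2 [0, 4, 6] 2,
  .rack [10, 7] 1 [8, 9, 8] 3,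
  .rack [12, 1, 6] 4 [1, 12, 6] 4,
  .rack [10, 4] 2 [9, 5] 4,
  .rack [] 11 [2, 10] 0,
  .rack [13, 2, 5] 13 [9, 6, 12] 13,
  .rack [2, 12, 13] 1 [1, 12, 6] 8,
  .rack [13, 5, 6] 0 [9, 11, 6] 5,
  .rack [6, 2] 3 [10, 13] 9,
  .rack [8, 2, 11] 6 [0, 4, 1] 13,
  .rack [3, 13, 0] 1 [9, 13, 11] 5,
  .rack [] 1 [9] 1,
  .rack [13, 2] 5 [2, 10, 6] 8,
  .rack [12, 8] 0 [2, 12, 1] 0,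
  .rack [13, 1, 7] 6 [6, 0, 8] 6,
  .rack [2, 6, 1] 0 [10, 6, 7] 3,
  .rack [9, 12, 6] 2 [5, 2, 5] 6,
  .rack [12, 13] 2 [8, 2, 12] 6,
  .rack [3] 0 [2] 4,
  .rack [12, 6] 5 [5, 5, 6] 5,
  .rack [2, 6, 2] 3 [10, 6, 9] 3,
  .rack [6, 8, 6] 0 [13, 0, 13] 1,
  .rack [7, 13, 8] 0 [13, 1, 6] 1,
  .rack [2, 5, 3] 6 [10, 9, 12] 6,
  .rack [13] 11 [10, 2, 6] 0,
  .rack [13, 3] 2 [9, 3] 6,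
  .rack [4, 13] 5 [3, 4, 6] 12,
  .rack [1] 4 [2, 4, 12] 2,
  .rack [12, 8, 11] 6 [8, 12, 11] 6,
  .rack [10] 6 [2, 3, 13] 2,
  .rack [11, 7, 6] 0 [7, 11, 6] 0,
  .rack [13, 7, 13] 2 [2, 13, 8] 13,
  .rack [0] 8 [12, 7] 1,
  .rack [10, 5] 6 [12, 12, 10] 6,
  .rack [12, 1, 7] 6 [2, 0, 5] 13,
  .rack [13, 12] 0 [6, 6, 12] 0,
  .rack [7] 1 [11, 1, 10] 0,
  .rack [12, 13, 2] 3 [13, 3, 0] 6,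
  .rack [10, 8, 6] 4 [9, 12, 13] 7,
  .inv 13,
  .rack [13, 10, 8] 0 [3, 6, 4] 2,
  .rack [4, 13] 3 [10, 4] 13,
  .rack [6, 11, 6] 3 [10, 13, 4] 13,
  .rack [6, 7] 6 [7, 6, 0] 13,
  .rack [6, 8, 10] 0 [2, 13, 1] 4,
  .rack [1, 13, 3] 0 [13, 0, 6] 12,
  .rack [7] 1 [2, 7] 1,
  .rack [6, 3] 2 [10, 13] 2,
  .rack [10, 6, 11] 1 [2, 6, 7] 5,
  .rack [7, 10] 1 [8, 7] 5,
  .rack [6, 10] 0 [10, 9, 6] 4,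
  .rack [0] 1 [9, 0] 1,
  .rack [13, 7] 6 [6, 6, 7] 6,
  .rack [3] 2 [5, 8, 3] 2,
  .rack [10, 13] 1 [6, 2] 5,
  .rack [12, 3, 13] 0 [3, 12, 13] 0,
  .rack [9, 13, 8] 0 [2, 6, 4] 2,
  .rack [8] 0 [12, 2, 5] 0,
  .rack [12] 2 [2, 12] 2,
  .rack [13, 11, 10] 1 [3, 6, 1] 4,
  .rack [3, 0, 6] 3 [0, 4, 13] 3,
  .rack [12, 8, 6] 3 [5, 3, 8] 13,
  .rack [2, 0, 12] 6 [0, 2, 12] 6,
  .rack [13, 11, 7] 1 [9, 6, 1] 4,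
  .rack [13] 8 [6, 6] 8,
  .rack [12, 13, 3] 2 [9, 3, 1] 6,
  .rack [13, 8, 13] 2 [6, 7, 6] 9,
  .rack [7, 6, 10] 1 [2, 7, 13] 12,
  .rack [5] 0 [12, 12] 0,
  .rack [11, 12] 6 [12, 11, 3] 6,
  .rack [3, 1] 0 [2, 7] 3,
  .rack [8] 7 [1, 4] 2,
  .rack [1, 10] 6 [10, 12, 1] 6,
  .rack [10, 7, 6] 9 [2, 3, 0] 13,
  .rack [0, 6] 2 [9, 0] 6,
  .rack [0] 5 [5] 7,
  .rack [12, 1, 6] 5 [1, 12, 6] 5,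
  .rack [13, 10] 1 [9, 6, 3] 1,
  .rack [] 8 [11, 1] 4,
  .rack [11, 10] 1 [10, 11] 1,
  .rack [3, 7] 1 [9, 9, 8] 3,
  .rack [1, 3, 1] 6 [12, 8, 3] 6,
  .rack [7, 1] 6 [9, 1, 7] 6,
  .rack [2, 11, 1] 6 [11, 1, 7] 6,
  .rack [8, 7] 3 [4, 5, 1] 4,
  .rack [12, 1, 13] 4 [1, 12, 13] 4,
  .rack [4] 1 [10, 4, 3] 1,
  .rack [10, 13, 0] 13 [6, 3, 7] 13,
  .rack [12, 8] 0 [0, 5, 1] 0,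
  .rack [1, 13] 9 [13, 0, 6] 2,
  .rack [12] 13 [10, 12, 6] 3,
  .rack [3, 2, 4] 6 [9, 11, 10] 6,
  .rack [1, 10] 0 [10, 12, 1] 0,
  .rack [9, 13] 4 [10, 6, 3] 0,
  .rack [11, 10, 1] 6 [10, 11, 1] 6,
  .rack [0, 3, 0] 6 [3, 11, 7] 6,
  .inv 5,
  .rack [3, 13] 2 [10, 6, 3] 2,
  .rack [12, 6] 2 [1, 9, 12] 6,
  .rack [6, 1, 10] 0 [2, 13, 8] 4,
  .rack [6, 7, 6] 2 [9, 6, 1] 13,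
  .rack [7] 3 [4, 7] 3,
  .rack [1, 13] 2 [13, 0, 6] 9,
  .rack [1, 7] 6 [2, 7, 1] 6,
  .rack [2, 0] 3 [4, 3, 1] 0,
  .rack [8, 5] 4 [12, 8, 7] 3,
  .rack [4, 8, 4] 6 [8, 4, 8] 6,
  .rack [6, 7] 6 [1, 6, 0] 13,
  .rack [9, 5, 6] 1 [5, 1, 13] 8,
  .rack [2, 1, 6] 0 [1, 2, 6] 0,
  .rack [9, 12] 6 [8, 12, 6] 2,
  .rack [13, 8] 7 [9, 6, 1] 0,
  .rack [0, 6, 10] 2 [2, 0, 10] 6,
  .rack [8, 5, 11] 6 [5, 8, 11] 6,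
  .rack [3, 7] 1 [1, 2, 1] 3,
  .rack [10, 1, 13] 4 [5, 1, 6] 11,
  .rack [5, 9] 4 [8, 10, 4] 2,
  .rack [1] 3 [4] 5,
  .rack [10] 6 [9, 6, 10] 2,
  .rack [8, 10, 13] 0 [6, 0, 13] 12,
  .rack [2, 4] 6 [0, 4, 13] 2,
  .rack [1, 10, 1] 0 [0, 2, 1] 3,
  .rack [12, 4, 3] 6 [4, 12, 10] 6,
  .rack [13, 10] 0 [3, 6] 7,
  .rack [1] 0 [0, 1] 0,
  .rack [0, 6] 3 [11, 3, 0] 13,
  .rack [6, 10] 2 [10, 13, 3] 2,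
  .rack [3, 0] 1 [0, 4, 3] 1,
  .rack [9] 4 [6, 3, 6] 0,
  .rack [6, 9, 5] 13 [2, 13, 12] 13,
  .rack [12] 13 [5, 5] 13,
  .rack [3] 2 [10, 10] 2,
  .rack [5, 1, 6] 0 [1, 5, 6] 0,
  .rack [0, 6, 1] 6 [8, 13, 7] 6,
  .rack [9, 8] 3 [0, 8, 7] 3,
  .rack [8, 7] 6 [1, 1, 7] 6,
  .rack [4, 3] 1 [10, 5, 4] 1,
  .rack [11, 6, 9] 3 [6, 10, 8] 6,
  .rack [10] 8 [9] 12,
  .rack [7, 13] 9 [1, 7, 8] 13,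
  .rack [10, 1] 0 [11, 9, 7] 3,
  .rack [13, 2] 5 [6, 10, 13] 1,
  .rack [9, 13, 7] 1 [3, 13, 8] 3,
  .rack [4, 2, 6] 3 [10, 4, 6] 9,
  .rack [10] 2 [12, 10, 0] 1,
  .rack [8] 4 [2, 0, 8] 4,
  .rack [12, 8, 6] 3 [3, 8, 5] 13,
  .rack [6, 1, 10] 2 [2, 13, 11] 5,
  .rack [9, 6, 5] 0 [13, 12, 4] 2,
  .rack [4, 3] 1 [3, 4] 1,
  .rack [11, 10] 6 [12, 11, 5] 6,
  .rack [10, 6, 12] 2 [2, 6, 1] 10,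
  .sub 3,
  .rack [10, 4, 13] 1 [4, 10, 13] 1,
  .rack [4] 2 [11, 8] 0,
  .rack [9, 6, 5] 13 [13, 2, 12] 13,
  .rack [6, 8, 13] 1 [7, 6, 4] 2,
  .rack [8, 6, 9] 4 [2, 8, 13] 11,
  .rack [11, 0, 6] 1 [0, 11, 6] 1,
  .rack [4, 12] 2 [2, 1, 3] 0,
  .rack [12, 7] 13 [0, 5, 6] 2,
  .rack [2, 6, 3] 0 [9, 13, 10] 0,
  .rack [7, 10] 1 [10, 11, 7] 1,
  .rack [0, 6] 9 [9, 0] 13,
  .rack [10, 0] 1 [12, 1, 10] 2,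
  .rack [7, 12, 13] 2 [5, 0, 13] 9,
  .rack [9, 0, 13] 1 [0, 9, 13] 1,
  .rack [] 3 [5] 3,
  .rack [6, 3, 1] 13 [10, 13, 8] 13,
  .rack [5, 6] 3 [3, 5] 13,
  .rack [12, 1] 6 [1, 12] 6,
  .rack [6] 12 [2, 13, 2] 5,
  .rack [11, 10, 1] 13 [10, 11, 1] 13,
  .rack [11, 12] 13 [12, 11, 6] 3,
  .rack [10, 0] 1 [11, 0, 10] 1,
  .rack [12] 0 [1, 12, 8] 0,
  .rack [10, 0] 6 [0, 11, 10] 6,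
  .rack [8, 5, 4] 6 [5, 8, 4] 6,
  .rack [8] 3 [4, 1] 10,
  .rack [2] 3 [7, 2, 0] 3,
  .rack [7, 4, 5] 13 [4, 7, 5] 13,
  .rack [] 0 [9] 0,
  .rack [1, 10] 6 [12, 10, 1] 6,
  .rack [2] 5 [9, 10] 1,
  .rack [11, 0] 6 [0, 11] 6,
  .rack [8, 5, 13] 0 [5, 8, 13] 0,
  .rack [11, 1, 6] 3 [5, 11, 1] 13,
  .rack [8, 10] 6 [10, 8, 5] 6,
  .rack [6] 3 [13, 13] 3,
  .rack [2, 0] 3 [5, 11, 7] 1,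
  .rack [8] 6 [2, 8, 6] 2,
  .rack [12] 2 [4, 8, 3] 0,
  .rack [0, 13] 9 [2, 0] 13,
  .rack [8, 2, 6] 1 [2, 8, 6] 1,
  .rack [13, 2, 4] 13 [9, 6, 11] 13,
  .rack [8] 7 [11] 9,
  .rack [3, 7] 6 [11, 7, 3] 6,
  .rack [4, 5, 1] 0 [9, 12, 10] 0,
  .rack [2, 6] 4 [6, 3, 13] 0,
  .rack [11, 7] 1 [0, 8, 10] 0,
  .rack [10] 8 [11, 5, 1] 4,
  .rack [13, 8, 6] 4 [9, 0, 6] 12,
  .rack [3, 13] 1 [9, 13] 5,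
  .rack [11, 13, 9] 3 [3, 11, 6] 9,
  .rack [6, 0] 3 [10, 13, 7] 3,
  .rack [9, 12, 6] 2 [8, 12, 13] 2,
  .rack [2, 6, 0] 1 [9, 13, 12] 2,
  .rack [6] 1 [2, 13] 8,
  .rack [11, 9, 13] 0 [3, 11, 13] 4,
  .inv 11,
  .rack [11, 2, 6] 1 [10, 11, 6] 12,
  .rack [6, 2] 3 [3, 9, 13] 3,
  .rack [8, 5] 6 [2, 5, 6] 2,
  .rack [1, 4, 8] 6 [11, 1, 6] 9,
  .rack [10, 1, 6] 4 [9, 5, 13] 7,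
  .rack [11, 12, 6] 3 [5, 11, 5] 13,
  .rack [9, 12] 6 [2, 2, 12] 6,
  .rack [7, 13] 3 [0, 0, 13] 3,
  .rack [10, 5, 1] 0 [5, 10, 1] 0,
  .rack [0, 1] 3 [12, 3, 7] 5,
  .rack [8, 3] 0 [3, 12, 8] 0,
  .rack [13, 12, 1] 0 [9, 6, 0] 5]

/-- the words of the enumeration, part 4 -/
def tagL4 : List Tag := [
  .rack [4, 6] 1 [11, 11, 6] 1,
  .rack [9] 4 [10] 7,
  .rack [5, 9, 13] 0 [10, 5, 6] 11,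
  .rack [6, 1] 0 [13, 13, 1] 0,
  .rack [13, 0, 1] 6 [6, 8, 7] 6,
  .rack [1] 0 [11, 8] 7,
  .rack [4, 2, 6] 0 [3, 4, 13] 11,
  .rack [10] 8 [7, 5, 1] 0,
  .rack [6] 2 [13, 13] 2,
  .rack [9, 13] 4 [13, 10, 6] 0,
  .rack [7, 6, 12] 6 [4, 6, 5] 13,
  .rack [11] 5 [7, 5, 9] 4,
  .rack [12, 8] 6 [10, 8, 3] 6,
  .rack [1] 10 [9, 3, 0] 1,
  .rack [2, 5, 13] 0 [5, 8, 6] 7,
  .cube 5,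
  .rack [10, 1, 13] 5 [1, 5, 6] 12,
  .rack [8] 7 [12, 2, 0] 5,
  .rack [4, 12, 1] 0 [3, 11, 7] 1,
  .rack [13] 12 [9, 6, 10] 1,
  .rack [9, 5, 13] 8 [10, 1, 6] 12,
  .rack [9, 11] 6 [0, 11, 6] 2,
  .rack [2, 6] 4 [10, 6] 7,
  .rack [12, 10] 6 [5, 10, 5] 6,
  .rack [8, 6] 2 [2, 8, 13] 2,
  .rack [12, 13, 10] 1 [3, 12, 6] 8,
  .rack [] 12 [9, 3] 1,
  .rack [10, 7] 1 [7, 5, 4] 1,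
  .rack [4, 12] 6 [10, 12, 4] 6,
  .rack [9, 6] 4 [13, 3] 7,
  .rack [11, 7, 1] 13 [7, 11, 1] 13,
  .rack [9, 7] 3 [4, 10, 1] 0,
  .rack [13, 11, 13] 3 [3, 6, 4] 13,
  .rack [1] 0 [2, 1] 0,
  .rack [8, 6, 12] 2 [6, 0, 13] 7,
  .rack [7, 6] 1 [0, 0, 6] 1,
  .rack [1] 0 [9, 1] 0,
  .rack [5, 2, 6] 0 [3, 5, 13] 11,
  .rack [2, 6, 3] 1 [10, 2, 13] 5,
  .rack [7, 4, 13] 0 [4, 7, 13] 0,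
  .rack [8, 10] 0 [0, 11] 1,
  .rack [12, 6] 3 [3, 12] 13,
  .rack [0] 13 [2, 0, 6] 9,
  .inv 2,
  .rack [13, 12, 10] 0 [3, 6, 0] 5,
  .rack [1, 6] 2 [9, 1] 6,
  .rack [5, 11, 3] 6 [10, 11, 5] 6,
  .rack [13, 1, 7] 13 [6, 0, 8] 13,
  .rack [5, 3, 13] 0 [3, 5, 13] 0,
  .rack [9, 12, 6] 0 [13, 11, 6] 12,
  .rack [13, 2] 5 [3, 6, 10] 1,
  .rack [8, 11] 13 [4, 1, 6] 2,
  .rack [7, 13] 2 [4, 2, 11] 6,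
  .rack [4, 5, 1] 0 [3, 2, 0] 5,
  .rack [12, 1] 6 [5, 5, 1] 6,
  .rack [10, 7, 6] 4 [9, 4, 13] 7,
  .rack [13, 1] 3 [6, 6, 1] 3,
  .rack [7, 10] 1 [5, 2, 0] 5,
  .rack [9] 3 [2, 2] 3,
  .rack [0, 13, 2] 3 [9, 0, 6] 3,
  .rack [7, 12, 13] 0 [5, 0, 13] 7,
  .rack [13, 11] 1 [6, 6, 11] 1,
  .rack [10, 7] 1 [12, 9] 3,
  .rack [11] 13 [10, 11, 6] 3,
  .rack [8, 5, 6] 2 [1, 9, 5] 6,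
  .rack [9, 13] 1 [2, 6] 8,
  .rack [12, 6, 3] 0 [10, 12, 13] 7,
  .rack [6, 10, 1] 0 [2, 13, 7] 3,
  .rack [13, 8] 13 [2, 6, 0] 6,
  .rack [13, 3, 0] 1 [9, 6, 11] 5,
  .rack [11, 10] 6 [4, 10, 4] 6,
  .rack [6, 1, 6] 2 [9, 6, 0] 13,
  .rack [] 1 [2] 1,
  .rack [8, 10] 6 [1, 1, 10] 6,
  .rack [10, 8] 0 [8, 12, 10] 0,
  .rack [10, 1] 0 [4, 9] 3,
  .rack [6] 12 [3, 2, 6] 1,
  .rack [2, 13] 5 [13, 3, 6] 1,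
  .rack [13, 8] 6 [0, 13, 1] 13,
  .rack [8] 0 [4, 4] 2,
  .rack [4, 12, 1] 0 [12, 9, 7] 3,
  .rack [6] 3 [2, 13, 2] 3,
  .rack [10, 5, 1] 6 [12, 1, 10] 6,
  .rack [4, 3] 1 [2, 12, 10] 0,
  .rack [2, 4, 13] 0 [0, 4, 6] 7,
  .rack [11, 7] 1 [8, 3] 7,
  .rack [11] 1 [4, 4] 1,
  .rack [1, 7, 13] 1 [7, 1, 6] 8,
  .rack [9, 10, 5] 0 [5, 4, 0] 1,
  .rack [8, 5] 6 [5, 8] 6,
  .rack [10] 2 [4, 10, 8] 0,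
  .rack [6, 5, 3] 0 [10, 13, 7] 5,
  .rack [2, 11] 6 [7, 11, 13] 2,
  .rack [11, 10] 1 [7, 10, 0] 1,
  .rack [5, 6] 11 [10, 5, 13] 4,
  .rack [2, 13, 4] 1 [6, 0, 8] 4,
  .rack [5, 1] 4 [11, 8, 7] 3,
  .rack [13, 3] 0 [2, 10, 6] 0,
  .rack [3, 8] 6 [5, 8, 3] 6,
  .rack [6, 4, 3] 6 [10, 13, 11] 6,
  .rack [13] 9 [2] 13,
  .rack [13, 9] 3 [10, 2, 6] 3,
  .rack [8, 3] 2 [3, 12] 2,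
  .rack [10, 4] 6 [4, 10] 6,
  .rack [6, 1, 13] 1 [0, 6, 8] 7,
  .rack [4] 1 [5, 4, 3] 1,
  .rack [0, 5] 13 [12, 7, 6] 2,
  .cube 0,
  .rack [0] 5 [11, 0, 1] 3,
  .rack [5, 1, 13] 12 [1, 5, 13] 12,
  .rack [13, 0] 1 [6, 6, 0] 1,
  .rack [6, 7] 13 [1, 6, 0] 6,
  .rack [1, 13] 7 [13, 0, 6] 1,
  .rack [8, 5, 0] 6 [2, 7, 12] 13,
  .rack [8] 3 [1, 1] 3,
  .rack [9, 11] 6 [11, 0, 6] 2,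
  .rack [3, 6] 0 [10, 10, 6] 0,
  .rack [12, 7, 13] 0 [0, 5, 13] 7,
  .rack [7] 10 [2, 10, 8] 0,
  .rack [4, 8, 13] 3 [5, 4, 8] 13,
  .rack [4] 2 [0, 4] 2,
  .rack [1] 10 [4] 12,
  .rack [2, 6, 2] 3 [9, 13, 9] 3,
  .rack [6, 5, 13] 0 [11, 7, 6] 1,
  .rack [1, 7] 3 [3, 1] 4,
  .rack [5, 3] 0 [11, 10, 5] 0,
  .rack [12, 10] 0 [4, 12] 0,
  .rack [2, 6] 4 [3, 13, 10] 0,
  .rack [4, 6] 2 [11, 11, 6] 2,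
  .rack [11, 6] 3 [0, 3, 7] 13,
  .rack [1, 6, 3] 2 [10, 2, 12] 6,
  .rack [6, 0, 6] 2 [9, 6, 8] 13,
  .rack [13, 3] 1 [3, 2, 13] 5,
  .rack [6, 11] 6 [13, 13, 11] 6,
  .rack [11, 13] 5 [4, 4, 13] 5,
  .rack [3] 1 [9, 10] 8,
  .rack [3, 6, 7] 1 [13, 9, 8] 3,
  .rack [13, 3] 2 [3, 6, 10] 2,
  .rack [0, 8] 4 [9, 8] 4,
  .rack [8, 10] 0 [9, 11] 1,
  .rack [11] 6 [7, 11, 0] 6,
  .rack [6] 9 [10, 13, 9] 3,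
  .rack [8] 4 [1, 1] 4,
  .rack [1, 3, 6] 2 [3, 9, 5] 6,
  .rack [1, 3, 1] 0 [9, 7, 1] 3,
  .rack [8] 13 [1, 1] 13,
  .rack [5] 4 [4, 5] 4,
  .rack [12, 4, 6] 3 [4, 12, 13] 3,
  .rack [11, 6] 1 [4, 4, 6] 1,
  .rack [1] 10 [8, 11] 5,
  .rack [1, 6, 2] 3 [10, 2, 12] 13,
  .rack [1, 7, 12] 6 [9, 5, 0] 13,
  .rack [0, 1] 3 [3, 0] 5,
  .rack [4, 13, 3] 2 [13, 3, 8] 13,
  .rack [5, 1, 6] 3 [1, 5, 6] 3,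
  .rack [12, 8, 13] 11 [8, 12, 13] 11,
  .inv 1,
  .rack [6] 5 [2, 13, 3] 1,
  .rack [5, 13, 3] 2 [13, 3, 7] 13,
  .rack [9, 4, 6] 2 [0, 2, 4] 6,
  .rack [7, 1, 6] 9 [8, 7, 8] 13,
  .rack [12, 2, 6] 4 [10, 12, 6] 7,
  .rack [] 11 [12, 0] 3,
  .rack [2, 0] 5 [9, 0, 10] 1,
  .rack [7] 3 [12] 4,
  .rack [10, 5, 6] 0 [5, 10, 6] 0,
  .rack [2, 12, 3] 0 [11, 2, 5] 0,
  .rack [13, 4] 1 [6, 6, 4] 1,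
  .rack [3, 7] 1 [2, 8] 3,
  .rack [8, 6] 2 [5, 9, 12] 6,
  .rack [9, 3, 6] 0 [2, 10, 13] 0,
  .rack [2] 3 [3] 9,
  .rack [12, 6, 9] 3 [2, 10, 8] 13,
  .rack [8, 5] 6 [3, 8, 10] 6,
  .rack [8, 11, 1] 6 [11, 1, 4] 6,
  .rack [6, 3] 1 [10, 13] 8,
  .rack [4, 1, 13] 7 [8, 11, 13] 7,
  .rack [5] 0 [2, 5, 1] 0,
  .rack [2, 13] 5 [6, 10] 8,
  .rack [5, 6, 10] 2 [2, 10, 1] 6,
  .rack [12, 4, 3] 6 [3, 12, 4] 6,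
  .rack [4] 1 [0, 1, 10] 0,
  .rack [0, 6] 8 [6, 1, 13] 0,
  .rack [12, 1] 0 [4, 3, 7] 1,
  .rack [4, 9, 13] 1 [3, 4, 13] 12,
  .inv 8,
  .rack [4, 3, 1] 6 [3, 4, 1] 6,
  .rack [2] 5 [1, 2] 5,
  .rack [4, 0, 6] 4 [0, 4, 6] 4,
  .rack [0, 8, 6] 9 [7, 8, 7] 13,
  .rack [3, 8, 6] 3 [8, 5, 13] 3,
  .rack [3, 7, 6] 3 [11, 7, 13] 3,
  .rack [3] 2 [9, 10] 2,
  .rack [2, 5] 0 [7, 12, 1] 0,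
  .rack [9, 13] 1 [6, 9, 13] 1,
  .rack [13, 4] 13 [6, 6, 4] 13,
  .rack [13, 3, 7] 1 [9, 6, 1] 3,
  .rack [1, 6, 7] 6 [0, 13, 8] 6,
  .rack [8, 11, 7] 6 [2, 4, 1] 13,
  .rack [0] 1 [1, 0] 1,
  .rack [3, 13] 1 [2, 2, 13] 5,
  .rack [8, 7] 3 [11, 10] 8,
  .rack [13, 4] 2 [6, 6, 4] 2,
  .rack [10] 0 [4, 10] 0,
  .rack [2, 0, 6] 3 [0, 2, 6] 3,
  .rack [3, 0] 13 [0, 4, 6] 3,
  .rack [11, 10] 1 [1, 4, 3] 1,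
  .rack [6, 10] 2 [9, 3, 13] 2,
  .rack [3, 0, 6] 5 [0, 4, 13] 12,
  .rack [12, 1, 13] 0 [1, 12, 13] 0,
  .rack [6] 5 [3, 9, 13] 1,
  .rack [4, 0, 13] 0 [0, 4, 13] 0,
  .rack [13, 2] 3 [2, 2, 6] 3,
  .rack [3] 6 [6] 10,
  .rack [6, 5] 4 [10, 13, 7] 10,
  .rack [9, 13] 3 [3, 13] 9,
  .rack [5, 11, 6] 3 [11, 5, 13] 3,
  .rack [3, 8, 13] 2 [9, 10, 1] 6,
  .rack [11, 10, 0] 6 [3, 0, 3] 6,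
  .rack [7, 13, 3] 1 [13, 1, 6] 11,
  .rack [13] 3 [6, 6] 3,
  .rack [2, 11, 6] 8 [3, 7, 13] 12,
  .rack [12, 3, 1] 0 [2, 8, 5] 4,
  .rack [7] 13 [0, 0] 13,
  .rack [11, 7] 6 [3, 7, 10] 6,
  .rack [6, 7] 1 [13, 13, 7] 1,
  .rack [7, 12, 8] 6 [1, 5, 0] 13,
  .rack [1] 4 [8, 8] 4,
  .rack [5, 1, 13] 1 [9, 5, 6] 8,
  .rack [5, 7, 1] 13 [9, 5, 7] 13,
  .rack [7, 4] 13 [10, 7, 6] 3,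
  .rack [3, 0] 1 [9, 1, 10] 2,
  .rack [10, 4, 1] 6 [4, 10, 1] 6,
  .rack [12, 1, 6] 0 [6, 11, 13] 8,
  .rack [4, 0] 1 [0, 4] 1,
  .rack [8, 6] 5 [1, 1, 6] 5,
  .rack [7, 12, 0] 6 [5, 7, 6] 9,
  .rack [12, 3, 1] 0 [1, 5, 3] 0,
  .rack [5, 1] 6 [1, 5] 6,
  .rack [8, 4, 1] 6 [7, 1, 11] 13,
  .rack [10, 6, 12] 0 [2, 6, 4] 1,
  .rack [4] 1 [11, 11] 1,
  .rack [9, 13, 8] 0 [10, 6, 7] 10,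
  .rack [5, 6] 2 [12, 12, 6] 2,
  .rack [11] 5 [10, 11] 5,
  .rack [3, 6, 12] 0 [13, 5, 9] 4,
  .rack [2, 13, 5] 6 [6, 9, 12] 6,
  .rack [11, 7] 6 [2, 11, 6] 2,
  .rack [6, 10] 0 [2, 13] 4,
  .rack [0, 10] 6 [10, 4, 0] 6,
  .rack [3, 13] 8 [10, 6, 3] 1,
  .rack [2, 4, 6] 1 [3, 0, 13] 5,
  .rack [] 12 [4, 8] 3,
  .rack [1, 13, 0] 6 [7, 6, 8] 6,
  .rack [5, 4] 13 [4, 5, 13] 3,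
  .rack [13] 8 [9, 6] 1,
  .rack [11, 13] 5 [3, 11, 6] 12,
  .rack [0, 12, 7] 6 [8, 7, 5] 13,
  .rack [4, 0] 13 [0, 4] 13,
  .rack [9, 8] 3 [2, 3, 7] 1,
  .rack [11, 7, 13] 0 [7, 11, 13] 0,
  .rack [8, 7] 6 [7, 8, 6] 2,
  .rack [11, 13] 2 [4, 4, 13] 2,
  .rack [8, 3, 6] 2 [3, 9, 12] 6,
  .rack [10] 8 [1, 10] 8,
  .rack [9, 7, 13] 0 [7, 9, 13] 0,
  .rack [2, 5] 0 [1, 5, 1] 0,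
  .rack [12, 11, 13] 5 [11, 12, 6] 12,
  .rack [6] 12 [9, 10, 6] 8,
  .inv 6,
  .rack [10, 6, 1] 0 [2, 6, 0] 3,
  .rack [1, 0] 6 [0, 1, 6] 2,
  .rack [7, 13, 7] 6 [0, 13, 0] 13,
  .rack [0, 8] 13 [6, 1, 7] 13,
  .rack [8, 13] 0 [1, 1, 13] 0,
  .rack [7, 4, 6] 8 [4, 7, 6] 8,
  .rack [] 2 [8] 2,
  .rack [5] 0 [7, 12] 0,
  .rack [7, 4, 13] 5 [4, 7, 13] 5,
  .rack [13, 7] 1 [9, 6, 0] 8,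
  .rack [11] 13 [4, 4] 13,
  .rack [4, 2, 6] 4 [10, 4, 6] 7,
  .rack [1, 13, 0] 6 [8, 13, 7] 13,
  .rack [2, 5] 0 [0, 3] 1,
  .rack [0] 3 [7, 7] 3,
  .rack [10, 13, 0] 1 [6, 8, 3] 2,
  .rack [13, 8, 6] 4 [0, 13, 2] 5,
  .rack [13, 0] 3 [6, 6, 0] 3,
  .rack [10] 1 [12, 10] 1,
  .rack [11] 5 [9, 8, 3] 2,
  .rack [9, 11, 6] 2 [0, 11, 13] 2,
  .rack [10, 6] 1 [2, 6] 5,
  .rack [12, 13, 10] 0 [3, 12, 6] 7,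
  .rack [7, 4, 6] 3 [0, 3, 0] 13,
  .rack [11, 0, 12] 6 [0, 11, 12] 6,
  .rack [6] 11 [9, 10, 6] 0,
  .rack [5, 4] 1 [11, 11, 10] 1,
  .rack [7, 6, 7] 6 [0, 6, 0] 13,
  .rack [7, 8] 6 [8, 7, 13] 2,
  .rack [1, 10, 1] 6 [12, 10, 8] 6]

/-- the words of the enumeration, part 5 -/
def tagL5 : List Tag := [
  .rack [9, 13] 4 [2, 6, 10] 0,
  .rack [4, 12] 2 [12, 10, 4] 2,
  .rack [8, 7, 6] 9 [0, 8, 0] 13,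
  .rack [13, 12, 13] 3 [3, 6, 5] 13,
  .rack [0, 1] 3 [4, 0] 5,
  .rack [0, 10] 1 [1, 0] 5,
  .rack [1, 3, 1] 0 [5, 3, 8] 0,
  .rack [13, 2] 5 [9, 6] 12,
  .rack [1, 3, 13] 1 [9, 1, 13] 5,
  .rack [6, 9] 3 [2, 13] 3,
  .rack [11, 6] 2 [9, 11, 7] 6,
  .rack [12, 10] 6 [1, 10, 8] 6,
  .rack [12] 2 [9, 12] 2,
  .rack [10, 8, 4] 6 [8, 4, 12] 6,
  .rack [4, 12] 2 [8, 0, 8] 4,
  .rack [8, 6, 0] 6 [7, 13, 1] 6,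
  .rack [10, 4] 2 [0, 10] 2,
  .rack [3, 8, 6] 3 [10, 12, 8] 13,
  .rack [4, 3] 1 [7, 3, 0] 1,
  .rack [10, 13] 0 [6, 3] 7,
  .rack [5, 2, 6] 0 [10, 5, 6] 4,
  .rack [1, 3] 0 [11, 0, 8] 4,
  .rack [8, 13] 7 [9, 8, 6] 0,
  .rack [5, 0, 13] 1 [7, 12, 13] 1,
  .rack [4, 5, 6] 3 [5, 4, 13] 3,
  .rack [3, 6, 5] 6 [13, 12, 10] 6,
  .rack [7] 6 [0, 0] 6,
  .rack [6, 7] 3 [10, 13, 0] 3,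
  .rack [4, 5] 13 [5, 4, 6] 3,
  .rack [5] 13 [3, 5, 13] 3,
  .rack [9, 13] 0 [6, 9, 13] 0,
  .rack [5, 3] 0 [1, 3, 8] 0,
  .rack [7, 4, 13] 1 [13, 12, 6] 4,
  .rack [11, 6] 2 [4, 4, 6] 2,
  .rack [11, 7] 1 [1, 4, 0] 1,
  .rack [8, 7] 3 [5, 8, 5] 4,
  .rack [1, 0, 6] 2 [2, 0, 1] 6,
  .rack [6] 2 [2, 13] 2,
  .rack [9, 1, 13] 1 [1, 9, 13] 1,
  .rack [6, 12] 2 [2, 13, 0] 1,
  .rack [0] 5 [7, 7] 5,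
  .rack [12, 10, 6] 0 [10, 12, 6] 0,
  .rack [0, 13, 3] 2 [9, 0, 3] 6,
  .rack [4, 3, 8] 6 [3, 4, 8] 6,
  .rack [5, 1] 0 [9, 5] 0,
  .rack [1] 3 [11, 11] 5,
  .rack [8, 6, 11] 6 [12, 6, 4] 13,
  .rack [7, 8, 11] 6 [9, 4, 1] 13,
  .rack [6] 9 [3, 2, 6] 3,
  .rack [1, 4, 13] 0 [11, 8, 13] 0,
  .rack [9, 8] 3 [11, 5, 1] 0,
  .rack [11, 13, 3] 2 [13, 3, 1] 13,
  .rack [5, 3] 6 [10, 10, 5] 6,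
  .rack [7, 2, 6] 0 [2, 7, 6] 0,
  .rack [8] 0 [1, 1] 0,
  .rack [6, 8] 6 [7, 6, 1] 13,
  .rack [9] 4 [0, 9] 4,
  .rack [4, 3] 1 [12, 4] 1,
  .rack [9, 3, 6] 1 [2, 10, 13] 1,
  .rack [1, 13] 9 [5, 2, 12] 13,
  .rack [12, 8] 0 [8, 12] 0,
  .rack [0] 1 [5] 2,
  .rack [10, 13] 1 [3, 3, 13] 1,
  .rack [8, 13, 3] 2 [9, 8, 3] 6,
  .rack [4, 2, 6] 1 [3, 4, 13] 5,
  .rack [12, 4] 2 [2, 7] 5,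
  .rack [4, 0, 13] 4 [0, 4, 13] 4,
  .rack [9, 3, 6] 0 [10, 6, 10] 0,
  .rack [7] 10 [12] 11,
  .rack [13, 4, 0] 1 [9, 6, 8] 4,
  .rack [0, 12, 13] 2 [8, 0, 12] 6,
  .rack [4, 3] 6 [3, 4] 6,
  .rack [9, 13, 1] 0 [3, 13, 7] 3,
  .rack [1, 0, 6] 2 [0, 1, 13] 2,
  .rack [8, 11, 12] 6 [4, 9, 5] 13,
  .rack [4, 3] 1 [8, 11, 10] 1,
  .rack [12, 2, 6] 0 [10, 12, 6] 4,
  .rack [7] 10 [5, 0] 3,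
  .rack [0, 8, 11] 6 [4, 1, 0] 13,
  .rack [13, 2, 0] 3 [9, 6, 7] 3,
  .rack [11, 12, 3] 6 [5, 11, 5] 6,
  .rack [0, 10, 6] 0 [2, 0, 6] 11,
  .st 1 3 5,
  .rack [3, 13] 1 [10, 10, 13] 1,
  .rack [4, 13, 2] 3 [13, 3, 8] 6,
  .rack [10, 8, 13] 4 [8, 12, 6] 11,
  .rack [13, 0] 13 [1, 13, 7] 6,
  .rack [8, 5, 6] 2 [2, 5, 13] 2,
  .rack [11, 0, 6] 5 [0, 11, 6] 5,
  .rack [] 5 [8] 5,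
  .rack [11, 8] 13 [1, 4, 6] 2,
  .rack [10, 13, 11] 1 [6, 1, 7] 3,
  .rack [9, 7] 3 [11, 9] 3,
  .rack [1, 6, 7] 6 [7, 13, 1] 13,
  .rack [4, 12, 1] 0 [0, 3, 0] 1,
  .rack [9, 7, 13] 0 [2, 7, 6] 7,
  .rack [2] 5 [13, 10, 13] 1,
  .rack [13] 11 [3, 6] 4,
  .rack [7, 5, 6] 2 [5, 0, 12] 13,
  .rack [10, 5] 0 [0, 8] 3,
  .rack [7, 10] 1 [1, 12, 4] 2,
  .rack [13, 2, 5] 0 [9, 6, 7] 5,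
  .rack [10, 4, 6] 2 [4, 10, 6] 2,
  .rack [6] 11 [3, 9, 13] 0,
  .rack [10] 8 [2, 3] 1,
  .rack [12, 1] 6 [2, 12, 6] 2,
  .rack [13, 3, 8] 0 [9, 6, 7] 10,
  .rack [0] 13 [7, 7] 13,
  .rack [11] 5 [1, 1] 10,
  .rack [2, 1, 6] 1 [1, 2, 6] 1,
  .rack [8, 6] 7 [6, 0, 13] 8,
  .rack [] 0 [11] 0,
  .rack [12, 3, 1] 6 [3, 12, 1] 6,
  .rack [1, 6] 9 [9, 1] 13,
  .rack [4, 3] 6 [7, 3, 0] 6,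
  .rack [12, 8, 13] 0 [8, 12, 13] 0,
  .rack [2, 6] 3 [3, 13, 9] 3,
  .rack [1, 4] 13 [11, 8, 6] 2,
  .rack [3] 0 [9, 9] 4,
  .rack [8, 5] 4 [10, 8, 7] 3,
  .rack [7, 1, 6] 9 [9, 7, 1] 13,
  .rack [8] 3 [7, 10, 5] 0,
  .rack [7, 13] 9 [2, 7] 13,
  .rack [10, 5, 1] 0 [9, 11, 10] 1,
  .rack [7, 4, 13] 1 [4, 7, 13] 1,
  .rack [12] 0 [5, 5] 0,
  .rack [4, 5, 3] 6 [10, 5, 4] 6,
  .rack [11] 1 [9, 11, 7] 1,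
  .rack [11, 8, 13] 1 [1, 4, 13] 8,
  .rack [4, 0] 1 [11, 8, 10] 0,
  .rack [8, 3, 13] 0 [9, 8, 13] 11,
  .rack [9, 8, 6] 4 [13, 7, 6] 5,
  .rack [0] 5 [1, 2, 0] 5,
  .rack [1] 3 [5, 1] 3,
  .rack [2, 0, 13] 5 [0, 2, 13] 5,
  .rack [5, 4] 1 [4, 10] 1,
  .rack [4, 1, 13] 0 [8, 11, 13] 0,
  .rack [10, 6] 1 [3, 3, 6] 1,
  .rack [12, 6, 9] 3 [6, 10, 7] 6,
  .rack [4] 6 [11, 11] 6,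
  .rack [8, 13, 9] 3 [3, 9, 12] 13,
  .rack [4, 13] 2 [2, 7, 4] 6,
  .rack [12, 4] 2 [1, 7] 5,
  .rack [0, 6, 1] 6 [1, 13, 0] 13,
  .rack [11, 13] 3 [7, 10, 0] 13,
  .rack [11, 9, 12] 6 [1, 4, 5] 13,
  .rack [11, 0] 6 [4, 4, 0] 6,
  .rack [7, 13, 3] 1 [9, 7, 6] 5,
  .rack [12, 4] 2 [3, 4, 12] 2,
  .rack [8, 6] 9 [9, 8] 13,
  .rack [7, 1, 6] 2 [9, 7, 1] 6,
  .rack [13, 10, 5] 6 [3, 6, 12] 6,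
  .rack [13, 1] 3 [3, 6, 8] 3,
  .rack [5, 11] 6 [12, 12, 11] 6,
  .rack [13, 10, 1] 13 [3, 6, 8] 13,
  .rack [0, 13, 1] 0 [13, 8, 6] 1,
  .rack [2, 1, 11] 6 [1, 2, 11] 6,
  .rack [8, 7] 3 [7, 9, 8] 3,
  .rack [4, 1, 7] 6 [8, 9, 11] 13,
  .rack [12, 10] 0 [1, 10, 8] 0,
  .rack [0] 8 [5] 9,
  .rack [3, 13] 8 [2, 6, 10] 1,
  .rack [11, 0] 13 [0, 11] 13,
  .rack [9, 1, 4] 6 [1, 9, 4] 6,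
  .rack [6] 3 [10, 13] 3,
  .rack [4, 13] 0 [11, 11, 13] 0,
  .rack [8, 6] 2 [9, 8] 6,
  .rack [10, 6] 2 [2, 3] 6,
  .rack [10, 8, 13] 5 [8, 12, 6] 12,
  .rack [4, 3] 2 [9, 10, 8] 0,
  .rack [11, 13, 2] 3 [13, 3, 1] 6,
  .rack [] 13 [10, 6] 3,
  .rack [9, 4, 13] 3 [3, 2, 11] 13,
  .rack [9, 5] 6 [1, 5, 6] 2,
  .rack [9, 13] 0 [2, 6] 7,
  .rack [4, 13, 2] 3 [9, 3, 0] 13,
  .rack [5, 1] 13 [10, 1, 6] 3,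
  .rack [13, 7] 3 [6, 6, 7] 3,
  .rack [9, 10, 5] 0 [2, 11, 3] 1,
  .rack [1, 10] 0 [9, 4] 1,
  .rack [1, 3] 0 [0, 1] 4,
  .rack [3, 8] 13 [5, 8, 6] 3,
  .rack [1, 0, 6] 9 [7, 1, 7] 13,
  .rack [10, 1] 0 [2, 2, 0] 3,
  .rack [10, 5] 0 [8, 10, 1] 0,
  .rack [3, 6, 1] 6 [13, 10, 8] 6,
  .rack [8, 3, 13] 8 [9, 8, 13] 12,
  .rack [10, 4] 2 [4, 10] 2,
  .rack [12, 10] 0 [0, 5, 3] 0,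
  .rack [9, 5, 6] 9 [8, 2, 5] 13,
  .rack [1, 10] 2 [10, 12] 2,
  .rack [5, 1, 13] 1 [1, 5, 13] 1,
  .rack [7, 13] 7 [9, 7, 6] 0,
  .rack [12, 13] 1 [5, 5, 13] 1,
  .rack [5, 6, 2] 3 [10, 5, 13] 9,
  .rack [0] 6 [7, 7] 6,
  .rack [0, 3, 0] 6 [7, 4, 3] 6,
  .rack [3, 0] 6 [10, 10, 0] 6,
  .rack [4, 3, 0] 6 [3, 4, 0] 6,
  .rack [11, 0, 13] 0 [0, 11, 13] 0,
  .rack [11, 10, 13] 0 [10, 11, 13] 0,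
  .rack [0, 13] 2 [11, 2, 4] 6,
  .rack [] 4 [7] 4,
  .rack [11, 6] 3 [4, 4, 6] 3,
  .rack [10, 0, 13] 4 [0, 11, 6] 11,
  .rack [1, 3, 1] 0 [0, 5, 4] 1,
  .rack [11, 0, 5] 6 [0, 11, 5] 6,
  .rack [11, 9, 13] 0 [10, 11, 6] 11,
  .rack [8, 13] 2 [12, 2, 5] 6,
  .rack [4] 1 [7, 4, 0] 1,
  .rack [] 3 [12] 3,
  .rack [8, 0] 6 [13, 7, 1] 6,
  .rack [0, 13, 4] 2 [13, 8, 6] 8,
  .rack [3, 1, 11] 6 [1, 11, 12] 6,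
  .rack [5, 3] 0 [10, 10, 5] 0,
  .rack [12, 6] 4 [5, 5, 6] 4,
  .rack [12, 4] 13 [4, 12, 6] 3,
  .rack [3] 7 [2] 11,
  .rack [5, 13, 2] 3 [9, 3, 8] 13,
  .rack [8, 11, 13] 2 [4, 1, 13] 9,
  .rack [10, 7] 6 [3, 3, 7] 6,
  .rack [7] 3 [5, 5] 4,
  .rack [8, 2, 11] 6 [2, 8, 11] 6,
  .rack [8, 10] 0 [10, 2, 5] 0,
  .inv 7,
  .rack [12, 11, 1] 6 [11, 1, 10] 6,
  .rack [5, 0] 13 [7, 12, 6] 2,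
  .rack [1, 13] 2 [9, 1, 6] 2,
  .rack [2, 6, 7] 1 [10, 6, 8] 3,
  .rack [1, 13, 2] 3 [9, 1, 6] 3,
  .rack [12, 13] 3 [10, 12] 13,
  .rack [7, 13] 2 [13, 1, 6] 9,
  .rack [8, 5, 6] 1 [5, 8, 6] 1,
  .rack [2, 6, 2] 3 [6, 2, 6] 3,
  .rack [5, 13] 0 [12, 12, 13] 0,
  .rack [10, 6] 0 [9, 13, 3] 0,
  .rack [] 12 [2, 10] 8,
  .rack [7, 1] 3 [11, 3, 7] 5,
  .rack [13] 1 [6, 6] 1,
  .rack [4, 13] 4 [3, 4, 6] 11,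
  .rack [7] 5 [3, 7, 1] 3,
  .rack [7] 5 [9, 12, 4] 2,
  .rack [13] 4 [9, 6, 10] 0,
  .rack [3, 13] 2 [13, 10, 6] 2,
  .rack [3, 8, 13] 4 [2, 5, 6] 7,
  .rack [0, 10] 1 [4, 10, 0] 1,
  .rack [12, 3, 1] 6 [5, 1, 3] 6,
  .rack [12, 1] 0 [2, 12] 0,
  .rack [11, 10] 1 [4, 5, 4] 1,
  .rack [11, 7] 1 [2, 11] 1,
  .rack [5, 4] 1 [8, 11, 3] 1,
  .rack [11, 2, 6] 4 [10, 11, 6] 7,
  .rack [11] 6 [4, 4] 6,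
  .rack [3, 6, 11] 1 [13, 5, 1] 4,
  .rack [7, 1] 3 [12, 9] 4,
  .rack [1, 13] 2 [2, 1] 6,
  .rack [6, 8] 13 [8, 6, 1] 6,
  .rack [13, 0] 5 [6, 6, 0] 5,
  .rack [9, 11, 6] 1 [0, 11, 13] 8,
  .rack [10] 0 [2, 3] 7,
  .rack [4, 5, 1] 0 [11, 9, 8] 3,
  .rack [7, 6] 2 [9, 7] 6,
  .rack [7, 8] 6 [13, 1, 0] 6,
  .rack [0, 8] 6 [8, 0, 6] 2,
  .rack [6, 2] 3 [2, 13, 9] 3,
  .rack [10, 0] 1 [5, 10] 2,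
  .rack [10] 1 [3, 3] 1,
  .rack [8, 0] 6 [0, 8, 13] 2,
  .rack [9, 3, 6] 1 [10, 6, 10] 1,
  .rack [4, 0, 13] 1 [0, 4, 13] 1,
  .rack [10, 1] 0 [9, 0] 3,
  .rack [8] 3 [12, 8] 3,
  .rack [9, 4, 6] 2 [7, 4, 13] 2,
  .rack [13] 2 [6, 6] 2,
  .rack [5, 13] 2 [1, 2, 5] 6,
  .rack [9, 11, 13] 1 [10, 0, 6] 5,
  .rack [9, 1, 13] 0 [1, 9, 13] 0,
  .rack [7, 4] 6 [10, 7, 3] 6,
  .rack [0, 12, 6] 2 [12, 7, 5] 13,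
  .rack [2, 13, 5] 0 [6, 7, 10] 1,
  .rack [12, 1] 0 [5, 5, 1] 0,
  .rack [11, 0, 6] 3 [7, 3, 7] 13,
  .rack [3, 0] 1 [5, 3] 2,
  .rack [5, 6] 1 [12, 12, 6] 1,
  .rack [3, 6] 1 [9, 10, 13] 1,
  .rack [6, 7] 6 [9, 13, 1] 13,
  .rack [12] 0 [9, 12, 1] 0,
  .rack [7, 10] 1 [11, 10, 7] 1,
  .rack [1, 10, 6] 2 [2, 1, 3] 6,
  .rack [9, 13, 12] 0 [3, 13, 8] 4,
  .rack [8, 7] 3 [10, 8] 4,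
  .rack [5, 4] 1 [1, 0] 3,
  .rack [1, 3, 1] 0 [11, 10, 0] 1,
  .rack [8, 10, 6] 2 [2, 8, 3] 6,
  .rack [12, 3] 0 [5, 5, 3] 0,
  .rack [9, 5, 6] 0 [13, 4, 6] 12,
  .rack [1, 10] 0 [7, 4] 1,
  .rack [11, 13] 3 [10, 11] 13,
  .rack [5] 4 [10, 5] 4,
  .rack [13, 7, 13] 2 [9, 6, 0] 6]

/-- the words of the enumeration, part 6 -/
def tagL6 : List Tag := [
  .rack [5, 11] 13 [11, 5, 6] 3,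
  .rack [13] 2 [9, 6] 2,
  .rack [12, 6] 0 [5, 5, 6] 0,
  .rack [2, 1] 3 [12, 3, 7] 1,
  .rack [13, 7] 1 [6, 6, 7] 1,
  .rack [4, 12, 1] 0 [11, 3, 7] 1,
  .rack [4, 3, 13] 8 [3, 4, 13] 8,
  .rack [11, 6, 10] 2 [6, 10, 8] 13]

/-- the words of the enumeration with their shapes -/
def tagL : List Tag := tagL0 ++ tagL1 ++ tagL2 ++ tagL3 ++ tagL4 ++ tagL5 ++ tagL6

theorem rackL_eq : rackL = extraL ++ tagL.filterMap Tag.getRack := by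
  decide +kernel

theorem tagL_ok : ∀ t ∈ tagL, t.ok stL = true := by
  decide +kernel

end Cfsg.Agent.Lib.H28.TitsM
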