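import Mathlib

set_option autoImplicit false

/-!
# Lifting rack relations between elements of order three through central extensions (helper28)

Letters `l : ℕ` stand for seven generators `x 0, …, x 6` (`l < 7`) and their inverses (`7 ≤ l < 14`).
If `σ : Γ →* T` has a central kernel without elements of order three, an element of order dividing three of `T`
has at most one lift of order dividing three.  So a relation `u y u⁻¹ = v y' v⁻¹` between conjugates of the
generators that holds in `T` holds for the lifts of order three, and so does a relation `x y x⁻¹ = z y` whenever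
`z` and `y` commute.
-/

namespace Cfsg.Agent.Lib.H28.TitsM

/-- the inverse letter -/
def linv (l : ℕ) : ℕ := if (l / 7) % 2 = 0 then l + 7 else l - 7

/-- the inverse word -/
def winv (w : List ℕ) : List ℕ := (w.map linv).reverse

/-- the relator `u y u⁻¹ (v y' v⁻¹)⁻¹` -/
def rackWord (u : List ℕ) (y : ℕ) (v : List ℕ) (y' : ℕ) : List ℕ :=
  u ++ [y] ++ winv u ++ v ++ [linv y'] ++ winv v

/-- the relator `x y x⁻¹ y⁻¹ z⁻¹` -/
def stWord (x y z : ℕ) : List ℕ := [x, y, linv x, linv y, linv z]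

/-- the cubes of the generators -/
def cubeL : List (List ℕ) := (List.range 7).map fun i => [i, i, i]

/-- the trivial relators -/
def invL : List (List ℕ) := [] :: (List.range 14).map fun l => [l, linv l]

/-- all the relators -/
def relWords (rackL : List (List ℕ × ℕ × List ℕ × ℕ)) (stL : List (ℕ × ℕ × ℕ)) : List (List ℕ) :=
  cubeL ++ invL ++ stL.map (fun s => stWord s.1 s.2.1 s.2.2) ++
    rackL.map (fun r => rackWord r.1 r.2.1 r.2.2.1 r.2.2.2)

section ev

variable {G : Type*} [Group G]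

/-- the value of a letter -/
def lv (x : ℕ → G) (l : ℕ) : G := if (l / 7) % 2 = 0 then x (l % 7) else (x (l % 7))⁻¹

/-- the value of a word -/
def ev (x : ℕ → G) (w : List ℕ) : G := (w.map (lv x)).prod

theorem ev_nil (x : ℕ → G) : ev x [] = 1 := rfl

theorem ev_cons (x : ℕ → G) (l : ℕ) (w : List ℕ) : ev x (l :: w) = lv x l * ev x w := by
  unfold ev
  rw [List.map_cons, List.prod_cons]

theorem ev_append (x : ℕ → G) (w w' : List ℕ) : ev x (w ++ w') = ev x w * ev x w' := by
  unfold ev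
  rw [List.map_append, List.prod_append]

theorem ev_single (x : ℕ → G) (l : ℕ) : ev x [l] = lv x l := by
  rw [ev_cons, ev_nil, mul_one]

theorem lv_linv (x : ℕ → G) (l : ℕ) : lv x (linv l) = (lv x l)⁻¹ := by
  unfold lv linv
  by_cases h : (l / 7) % 2 = 0
  · rw [if_pos h, if_pos h]
    have h1 : ¬ ((l + 7) / 7) % 2 = 0 := by omega
    have h2 : (l + 7) % 7 = l % 7 := by omega
    rw [if_neg h1, h2]
  · rw [if_neg h, if_neg h]
    have h1 : ((l - 7) / 7) % 2 = 0 := by omega
    have h2 : (l - 7) % 7 = l % 7 := by omega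
    rw [if_pos h1, h2, inv_inv]

theorem ev_winv (x : ℕ → G) (w : List ℕ) : ev x (winv w) = (ev x w)⁻¹ := by
  induction w with
  | nil => simp [winv, ev]
  | cons l w ih =>
    have e : winv (l :: w) = winv w ++ [linv l] := by
      unfold winv
      rw [List.map_cons, List.reverse_cons]
    rw [e, ev_append, ih, ev_single, lv_linv, ev_cons, mul_inv_rev]

theorem ev_rackWord (x : ℕ → G) (u : List ℕ) (y : ℕ) (v : List ℕ) (y' : ℕ) :
    ev x (rackWord u y v y') =
      (ev x u * lv x y * (ev x u)⁻¹) * (ev x v * lv x y' * (ev x v)⁻¹)⁻¹ := by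
  unfold rackWord
  rw [ev_append, ev_append, ev_append, ev_append, ev_append, ev_single, ev_single, ev_winv, ev_winv, lv_linv]
  group

theorem ev_stWord (x : ℕ → G) (a b c : ℕ) :
    ev x (stWord a b c) = lv x a * lv x b * (lv x a)⁻¹ * (lv x b)⁻¹ * (lv x c)⁻¹ := by
  unfold stWord
  rw [ev_cons, ev_cons, ev_cons, ev_cons, ev_single, lv_linv, lv_linv, lv_linv]
  group

theorem lv_pow_three (x : ℕ → G) (hx : ∀ i, x i ^ 3 = 1) (l : ℕ) : lv x l ^ 3 = 1 := by
  unfold lv
  split_ifs
  · exact hx _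
  · rw [inv_pow, hx, inv_one]

theorem lv_of_lt (x : ℕ → G) {i : ℕ} (hi : i < 7) : lv x i = x i := by
  unfold lv
  have h1 : (i / 7) % 2 = 0 := by omega
  have h2 : i % 7 = i := by omega
  rw [if_pos h1, h2]

theorem map_lv {H : Type*} [Group H] (σ : G →* H) (x : ℕ → G) (l : ℕ) :
    σ (lv x l) = lv (fun i => σ (x i)) l := by
  unfold lv
  split_ifs
  · rfl
  · rw [map_inv]

theorem map_ev {H : Type*} [Group H] (σ : G →* H) (x : ℕ → G) (w : List ℕ) :
    σ (ev x w) = ev (fun i => σ (x i)) w := by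
  induction w with
  | nil => rw [ev_nil, ev_nil, map_one]
  | cons l w ih => rw [ev_cons, ev_cons, map_mul, ih, map_lv]

end ev

section lift

variable {Γ T : Type*} [Group Γ] [Group T] (σ : Γ →* T)

/-- uniqueness of the lift of order three -/
theorem lift_unique (hc : σ.ker ≤ Subgroup.center Γ) (h3 : ∀ k ∈ σ.ker, k ^ 3 = 1 → k = 1) {a b : Γ}
    (hab : σ a = σ b) (ha : a ^ 3 = 1) (hb : b ^ 3 = 1) : a = b := by
  have hk : a⁻¹ * b ∈ σ.ker := by
    rw [MonoidHom.mem_ker, map_mul, map_inv, hab, inv_mul_cancel]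
  have hcomm : Commute a (a⁻¹ * b) := by
    have := Subgroup.mem_center_iff.mp (hc hk) a
    exact this
  have hb' : b = a * (a⁻¹ * b) := by group
  have h1 : (a⁻¹ * b) ^ 3 = 1 := by
    have h2 : b ^ 3 = a ^ 3 * (a⁻¹ * b) ^ 3 := by
      conv_lhs => rw [hb']
      exact hcomm.mul_pow 3
    rw [ha, hb, one_mul] at h2
    exact h2.symm
  have h2 := h3 _ hk h1
  rw [hb', h2, mul_one]

/-- existence of the lift of order three -/
theorem exists_cube_lift [Finite Γ] (hs : Function.Surjective σ) (hc : σ.ker ≤ Subgroup.center Γ)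
    (hcop : (Nat.card σ.ker).Coprime 3) {s : T} (hs3 : s ^ 3 = 1) : ∃ a : Γ, σ a = s ∧ a ^ 3 = 1 := by
  obtain ⟨a0, ha0⟩ := hs s
  have hk : a0 ^ 3 ∈ σ.ker := by
    rw [MonoidHom.mem_ker, map_pow, ha0, hs3]
  obtain ⟨k', hk'⟩ := (powCoprime hcop).surjective (⟨a0 ^ 3, hk⟩⁻¹ : σ.ker)
  have hk'3 : (k' : Γ) ^ 3 = (a0 ^ 3)⁻¹ := by
    have := congrArg (fun z : σ.ker => (z : Γ)) hk'
    simpa [powCoprime] using this
  refine ⟨a0 * k', ?_, ?_⟩
  · rw [map_mul, ha0, MonoidHom.mem_ker.mp k'.2, mul_one]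
  · have hcomm : Commute a0 (k' : Γ) := by
      have := Subgroup.mem_center_iff.mp (hc k'.2) a0
      exact this
    rw [hcomm.mul_pow, hk'3, mul_inv_cancel]

/-- no elements of order three in the kernel -/
theorem no_three_torsion [Finite Γ] (hcop : (Nat.card σ.ker).Coprime 3) :
    ∀ k ∈ σ.ker, k ^ 3 = 1 → k = 1 := by
  intro k hk h3
  have h1 : orderOf (⟨k, hk⟩ : σ.ker) ∣ 3 := by
    apply orderOf_dvd_of_pow_eq_one
    exact Subtype.ext h3
  have h2 : orderOf (⟨k, hk⟩ : σ.ker) ∣ Nat.card σ.ker := orderOf_dvd_natCard _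
  have h4 : orderOf (⟨k, hk⟩ : σ.ker) = 1 := Nat.eq_one_of_dvd_coprimes hcop h2 h1
  have := orderOf_eq_one_iff.mp h4
  exact congrArg Subtype.val this

variable (hc : σ.ker ≤ Subgroup.center Γ) (h3 : ∀ k ∈ σ.ker, k ^ 3 = 1 → k = 1)
  (x : ℕ → Γ) (hx : ∀ i, x i ^ 3 = 1)
include hc h3 hx

/-- a rack relation lifts -/
theorem rack_lift (u : List ℕ) (y : ℕ) (v : List ℕ) (y' : ℕ)
    (h : ev (fun i => σ (x i)) (rackWord u y v y') = 1) : ev x (rackWord u y v y') = 1 := by
  rw [← map_ev, ev_rackWord, map_mul, map_inv, mul_inv_eq_one] at h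
  rw [ev_rackWord, mul_inv_eq_one]
  apply lift_unique σ hc h3 h
  · rw [conj_pow, lv_pow_three x hx, mul_one, mul_inv_cancel]
  · rw [conj_pow, lv_pow_three x hx, mul_one, mul_inv_cancel]

/-- a commutator relation `x y x⁻¹ y⁻¹ = z` lifts when `z` and `y` commute -/
theorem st_lift (a b c : ℕ) (hcomm : ev x (rackWord [c] b [] b) = 1)
    (h : ev (fun i => σ (x i)) (stWord a b c) = 1) : ev x (stWord a b c) = 1 := by
  rw [ev_rackWord, ev_single, ev_nil, one_mul, inv_one, mul_one, mul_inv_eq_one] at hcomm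
  have hcb : lv x c * lv x b = lv x b * lv x c := by
    have := congrArg (fun g => g * lv x c) hcomm
    simpa [mul_assoc] using this
  rw [← map_ev, ev_stWord] at h
  rw [ev_stWord]
  have h1 : σ (lv x a * lv x b * (lv x a)⁻¹) = σ (lv x c * lv x b) := by
    have e : lv x a * lv x b * (lv x a)⁻¹ =
        (lv x a * lv x b * (lv x a)⁻¹ * (lv x b)⁻¹ * (lv x c)⁻¹) * (lv x c * lv x b) := by group
    rw [e, map_mul, h, one_mul]
  have h2 := lift_unique σ hc h3 h1
    (by rw [conj_pow, lv_pow_three x hx, mul_one, mul_inv_cancel])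
    (by
      have hco : Commute (lv x c) (lv x b) := hcb
      rw [hco.mul_pow, lv_pow_three x hx, lv_pow_three x hx, mul_one])
  rw [h2]
  group

/-- all the relators lift -/
theorem rels_lift (rackL : List (List ℕ × ℕ × List ℕ × ℕ)) (stL : List (ℕ × ℕ × ℕ))
    (hst : ∀ s ∈ stL, ([s.2.2], s.2.1, [], s.2.1) ∈ rackL)
    (hσ : ∀ w ∈ relWords rackL stL, ev (fun i => σ (x i)) w = 1) :
    ∀ w ∈ relWords rackL stL, ev x w = 1 := by
  have hrack : ∀ r ∈ rackL, ev x (rackWord r.1 r.2.1 r.2.2.1 r.2.2.2) = 1 := by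
    intro r hr
    apply rack_lift σ hc h3 x hx
    apply hσ
    unfold relWords
    exact List.mem_append_right _ (List.mem_map.mpr ⟨r, hr, rfl⟩)
  intro w hw
  have hw' := hw
  unfold relWords at hw'
  rw [List.mem_append, List.mem_append, List.mem_append] at hw'
  rcases hw' with ((hw' | hw') | hw') | hw'
  · -- cubes
    unfold cubeL at hw'
    obtain ⟨i, hi, rfl⟩ := List.mem_map.mp hw'
    rw [List.mem_range] at hi
    rw [ev_cons, ev_cons, ev_single, lv_of_lt x hi, ← mul_assoc, ← pow_two, ← pow_succ]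
    exact hx i
  · -- trivial relators
    unfold invL at hw'
    rcases List.mem_cons.mp hw' with rfl | hw'
    · exact ev_nil x
    · obtain ⟨l, _, rfl⟩ := List.mem_map.mp hw'
      rw [ev_cons, ev_single, lv_linv, mul_inv_cancel]
  · -- commutator relators
    obtain ⟨s, hs, rfl⟩ := List.mem_map.mp hw'
    apply st_lift σ hc h3 x hx
    · exact hrack _ (hst s hs)
    · exact hσ _ hw
  · obtain ⟨r, hr, rfl⟩ := List.mem_map.mp hw'
    exact hrack r hr

end lift

end Cfsg.Agent.Lib.H28.TitsM
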