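import Cfsg.Agent.Lib.H28.TitsM.Three
import Cfsg.Agent.Lib.H28.StemTools

set_option autoImplicit false
set_option maxRecDepth 100000

/-!
# The Schur multiplier of the Tits group is trivial (helper28)

Every finite stem extension `σ : Γ →* T` of the Tits group has trivial kernel.  Passing to quotients one
reduces to a kernel of prime order `p`.  For `p = 3` transfer to a subgroup `SL₃(3)` of index `3200` applies.
For `p ≠ 3` the seven generators of order three of `T` have unique lifts of order three; these satisfy the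
relators of a presentation of `T` (rack relations between conjugates, and the Steinberg relations of `SL₃(3)`), so
they generate a subgroup of order at most `|T|` (a certified coset enumeration) which is a complement of the kernel.
-/

namespace Cfsg.Agent.Lib.H28.TitsM

open Cfsg.Agent.Lib.H3.Tits
open scoped commutatorElement

theorem commutatorElement_mul_central_left {G : Type*} [Group G] (a b z : G) (hz : z ∈ Subgroup.center G) :
    ⁅a * z, b⁆ = ⁅a, b⁆ := by
  rw [Subgroup.mem_center_iff] at hz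
  rw [commutatorElement_def, commutatorElement_def]
  have h1 : a * z * b * (a * z)⁻¹ = a * b * a⁻¹ := by
    have h2 : z * b = b * z := (hz b).symm
    calc a * z * b * (a * z)⁻¹ = a * (z * b) * z⁻¹ * a⁻¹ := by group
      _ = a * (b * z) * z⁻¹ * a⁻¹ := by rw [h2]
      _ = a * b * a⁻¹ := by group
  rw [h1]

theorem commutatorElement_mul_central_right {G : Type*} [Group G] (a b z : G) (hz : z ∈ Subgroup.center G) :
    ⁅a, b * z⁆ = ⁅a, b⁆ := by
  rw [Subgroup.mem_center_iff] at hz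
  rw [commutatorElement_def, commutatorElement_def]
  have h2 : a * z = z * a := hz a
  have h3 : z * a⁻¹ = a⁻¹ * z := (hz a⁻¹).symm
  calc a * (b * z) * a⁻¹ * (b * z)⁻¹ = a * b * (z * a⁻¹) * z⁻¹ * b⁻¹ := by group
    _ = a * b * (a⁻¹ * z) * z⁻¹ * b⁻¹ := by rw [h3]
    _ = a * b * a⁻¹ * b⁻¹ := by group

/-- a subgroup mapping isomorphically onto the quotient is a complement of the kernel of a stem extension -/
theorem ker_eq_bot_of_complement {Γ G : Type*} [Group Γ] [Group G] (σ : Γ →* G)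
    (hc : σ.ker ≤ Subgroup.center Γ) (hd : σ.ker ≤ commutator Γ) (Γ₀ : Subgroup Γ)
    (hsurj : Γ₀.map σ = ⊤) (hinj : ∀ a ∈ Γ₀, σ a = 1 → a = 1) : σ.ker = ⊥ := by
  have hdec : ∀ a : Γ, ∃ a₀ ∈ Γ₀, ∃ z ∈ Subgroup.center Γ, a = a₀ * z := by
    intro a
    have h1 : σ a ∈ Γ₀.map σ := by rw [hsurj]; exact Subgroup.mem_top _
    obtain ⟨a₀, ha₀, he⟩ := h1
    refine ⟨a₀, ha₀, a₀⁻¹ * a, hc ?_, by group⟩
    rw [MonoidHom.mem_ker, map_mul, map_inv, he, inv_mul_cancel]
  have hcomm : commutator Γ ≤ Γ₀ := by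
    rw [commutator_def, Subgroup.commutator_le]
    intro a _ b _
    obtain ⟨a₀, ha₀, za, hza, rfl⟩ := hdec a
    obtain ⟨b₀, hb₀, zb, hzb, rfl⟩ := hdec b
    rw [commutatorElement_mul_central_left _ _ _ hza, commutatorElement_mul_central_right _ _ _ hzb]
    rw [commutatorElement_def]
    exact Γ₀.mul_mem (Γ₀.mul_mem (Γ₀.mul_mem ha₀ hb₀) (Γ₀.inv_mem ha₀)) (Γ₀.inv_mem hb₀)
  rw [eq_bot_iff]
  intro k hk
  rw [Subgroup.mem_bot]
  exact hinj k (hcomm (hd hk)) (MonoidHom.mem_ker.mp hk)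

/-- kernels of order prime to three -/
theorem ker_eq_bot_coprime {Γ : Type} [Group Γ] [Finite Γ] (σ : Γ →* ↥T) (hσ : Cfsg.IsStemExtension σ)
    (hcop : (Nat.card σ.ker).Coprime 3) : σ.ker = ⊥ := by
  obtain ⟨hs, hc, hd⟩ := hσ
  have h3 := no_three_torsion σ hcop
  choose xh hxσ hx3 using fun i => exists_cube_lift σ hs hc hcop (xT_cube i)
  have hσx : (fun i => σ (xh i)) = xT := funext hxσ
  have hrelΓ : ∀ w ∈ relL, ev xh w = 1 := by
    apply rels_lift σ hc h3 xh hx3 rackL stL hst_ok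
    intro w hw
    rw [hσx]
    exact rels_xT w hw
  set Γ₀ : Subgroup Γ := Subgroup.closure {g : Γ | ∃ i < 7, g = xh i} with hΓ₀
  have hmem : ∀ i, xh i ∈ Γ₀ := by
    intro i
    by_cases hi : i < 7
    · exact Subgroup.subset_closure ⟨i, hi, rfl⟩
    · have h1 : xh i = 1 := by
        apply lift_unique σ hc h3 _ (hx3 i) (one_pow 3)
        rw [hxσ, xT_ge (by omega), map_one]
      rw [h1]
      exact Subgroup.one_mem _
  let x₀ : ℕ → ↥Γ₀ := fun i => ⟨xh i, hmem i⟩
  have hrel₀ : ∀ w ∈ relL, ev x₀ w = 1 := by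
    intro w hw
    have h := map_ev Γ₀.subtype x₀ w
    have e : (fun i => Γ₀.subtype (x₀ i)) = xh := rfl
    rw [e, hrelΓ w hw] at h
    exact (map_eq_one_iff Γ₀.subtype Γ₀.subtype_injective).mp h
  have hgen₀ : Subgroup.closure {g : ↥Γ₀ | ∃ i < 7, g = x₀ i} = ⊤ := by
    apply Subgroup.map_injective Γ₀.subtype_injective
    rw [MonoidHom.map_closure, ← MonoidHom.range_eq_map, Subgroup.range_subtype]
    have hset : (Γ₀.subtype '' {g : ↥Γ₀ | ∃ i < 7, g = x₀ i}) = {g : Γ | ∃ i < 7, g = xh i} := by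
      ext g
      constructor
      · rintro ⟨_, ⟨i, hi, rfl⟩, rfl⟩
        exact ⟨i, hi, rfl⟩
      · rintro ⟨i, hi, rfl⟩
        exact ⟨x₀ i, ⟨i, hi, rfl⟩, rfl⟩
    rw [hset]
  obtain ⟨-, hcard⟩ := card_le_of_rels x₀ hgen₀ hrel₀
  have hsurj : Γ₀.map σ = ⊤ := by
    rw [hΓ₀, MonoidHom.map_closure, ← closure_xT]
    congr 1
    ext g
    constructor
    · rintro ⟨_, ⟨i, hi, rfl⟩, rfl⟩
      exact ⟨i, hi, (hxσ i)⟩
    · rintro ⟨i, hi, rfl⟩
      exact ⟨xh i, ⟨i, hi, rfl⟩, hxσ i⟩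
  let σ₀ : ↥Γ₀ →* ↥T := σ.comp Γ₀.subtype
  have hσ₀s : Function.Surjective σ₀ := by
    intro t
    have h1 : t ∈ Γ₀.map σ := by rw [hsurj]; exact Subgroup.mem_top t
    obtain ⟨a, ha, rfl⟩ := h1
    exact ⟨⟨a, ha⟩, rfl⟩
  have hT : Nat.card ↥T = 17971200 := card_T
  have hbij := hσ₀s.bijective_of_nat_card_le (by rw [hT]; exact hcard)
  apply ker_eq_bot_of_complement σ hc hd Γ₀ hsurj
  intro a ha h1
  have h2 : σ₀ ⟨a, ha⟩ = σ₀ 1 := by
    rw [map_one]
    exact h1
  exact congrArg Subtype.val (hbij.1 h2)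

/-- kernels of prime order are impossible -/
theorem prime_case {Γ : Type} [Group Γ] [Finite Γ] (σ : Γ →* ↥T) (hσ : Cfsg.IsStemExtension σ) (p : ℕ)
    (hp : p.Prime) (hcard : Nat.card σ.ker = p) : σ.ker = ⊥ := by
  by_cases h3 : p = 3
  · subst h3
    rw [eq_bot_iff]
    intro k hk
    rw [Subgroup.mem_bot]
    apply eq_one_of_pow_three σ hσ hk
    have := pow_card_eq_one' (G := σ.ker) (x := ⟨k, hk⟩)
    rw [hcard] at this
    exact congrArg Subtype.val this
  · apply ker_eq_bot_coprime σ hσ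
    rw [hcard]
    exact (Nat.coprime_primes hp Nat.prime_three).mpr h3

/-- every finite stem extension of the Tits group has trivial kernel -/
theorem ker_eq_bot_aux : ∀ n : ℕ, ∀ (Γ : Type) [Group Γ] [Finite Γ] (σ : Γ →* ↥T),
    Cfsg.IsStemExtension σ → Nat.card σ.ker = n → σ.ker = ⊥ := by
  intro n
  induction n using Nat.strong_induction_on with
  | _ n ih =>
    intro Γ _ _ σ hσ hn
    by_contra hne
    have h1 : Nat.card σ.ker ≠ 1 := fun h => hne (Subgroup.eq_bot_of_card_eq _ h)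
    obtain ⟨p, hp, hdvd⟩ := Nat.exists_prime_and_dvd h1
    have : Fact p.Prime := ⟨hp⟩
    obtain ⟨x, hx⟩ := exists_prime_orderOf_dvd_card' (G := σ.ker) p hdvd
    set Z0 : Subgroup Γ := (Subgroup.zpowers x).map σ.ker.subtype with hZ0
    have hZ0le : Z0 ≤ σ.ker := by
      rintro _ ⟨y, -, rfl⟩
      exact y.2
    have hZ0card : Nat.card Z0 = p := by
      rw [hZ0, Subgroup.card_map_of_injective (Subgroup.subtype_injective _), Nat.card_zpowers, hx]
    obtain ⟨Γ', i1, i2, σ', hσ', hc⟩ :=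
      Cfsg.Agent.Lib.H28.StemTools.exists_stem_quotient σ hσ Z0 hZ0le
    rw [hZ0card, hn] at hc
    have hpos : 0 < n := by
      rw [← hn]; exact Nat.card_pos
    have hlt : Nat.card σ'.ker < n := by
      have h2 := hp.two_le
      have hk0 : 0 < Nat.card σ'.ker := Nat.card_pos
      nlinarith
    have hbot := ih _ hlt Γ' σ' hσ' rfl
    rw [hbot, Subgroup.card_bot, one_mul] at hc
    exact hne (prime_case σ hσ p hp (by rw [hn, hc]))

theorem ker_eq_bot (Γ : Type) [Group Γ] [Finite Γ] (σ : Γ →* ↥T) (hσ : Cfsg.IsStemExtension σ) :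
    σ.ker = ⊥ :=
  ker_eq_bot_aux _ Γ σ hσ rfl

end Cfsg.Agent.Lib.H28.TitsM
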