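import Cfsg.Agent.Lib.H28.TitsM.Lift

set_option autoImplicit false

/-!
# Tagged relators (helper28)

The words used by a certified coset enumeration, listed with their shapes, so that the list can be compared
with the list of relators in one pass.
-/

namespace Cfsg.Agent.Lib.H28.TitsM

/-- the shape of a word of the enumeration -/
inductive Tag where
  | cube (i : ℕ)
  | inv (l : ℕ)
  | nil
  | st (x y z : ℕ)
  | rack (u : List ℕ) (y : ℕ) (v : List ℕ) (y' : ℕ)
  | sub (i : ℕ)

/-- the word of a tag, and whether it is a relator -/
def Tag.word : Tag → List ℕ × Bool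
  | .cube i => ([i, i, i], true)
  | .inv l => ([l, linv l], true)
  | .nil => ([], true)
  | .st x y z => (stWord x y z, true)
  | .rack u y v y' => (rackWord u y v y', true)
  | .sub i => ([i], false)

/-- the rack relator of a tag -/
def Tag.getRack : Tag → Option (List ℕ × ℕ × List ℕ × ℕ)
  | .rack u y v y' => some (u, y, v, y')
  | _ => none

/-- the side conditions of a tag -/
def Tag.ok (stL : List (ℕ × ℕ × ℕ)) : Tag → Bool
  | .cube i => decide (i < 7)
  | .inv l => decide (l < 14)
  | .nil => true
  | .st x y z => decide ((x, y, z) ∈ stL)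
  | .rack _ _ _ _ => true
  | .sub i => decide (i < 6)

/-- the generators of the subgroup -/
def subL : List (List ℕ) := [[0], [1], [2], [3], [4], [5]]

theorem spec_of_tags (tagL : List Tag) (extra rackL : List (List ℕ × ℕ × List ℕ × ℕ)) (stL : List (ℕ × ℕ × ℕ))
    (hr : rackL = extra ++ tagL.filterMap Tag.getRack) (hok : ∀ t ∈ tagL, t.ok stL = true) :
    ∀ v ∈ tagL.map Tag.word, (v.2 = true → v.1 ∈ relWords rackL stL) ∧ (v.2 = false → v.1 ∈ subL) := by
  intro v hv
  obtain ⟨t, ht, rfl⟩ := List.mem_map.mp hv
  have hk := hok t ht
  unfold relWords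
  cases t with
  | cube i =>
    refine ⟨fun _ => ?_, fun h => absurd h (by simp [Tag.word])⟩
    have hi : i < 7 := by simpa [Tag.ok] using hk
    apply List.mem_append_left
    apply List.mem_append_left
    apply List.mem_append_left
    exact List.mem_map.mpr ⟨i, List.mem_range.mpr hi, rfl⟩
  | inv l =>
    refine ⟨fun _ => ?_, fun h => absurd h (by simp [Tag.word])⟩
    have hl : l < 14 := by simpa [Tag.ok] using hk
    apply List.mem_append_left
    apply List.mem_append_left
    apply List.mem_append_right
    exact List.mem_cons_of_mem _ (List.mem_map.mpr ⟨l, List.mem_range.mpr hl, rfl⟩)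
  | nil =>
    refine ⟨fun _ => ?_, fun h => absurd h (by simp [Tag.word])⟩
    apply List.mem_append_left
    apply List.mem_append_left
    apply List.mem_append_right
    exact List.mem_cons_self
  | st x y z =>
    refine ⟨fun _ => ?_, fun h => absurd h (by simp [Tag.word])⟩
    have hs : (x, y, z) ∈ stL := by simpa [Tag.ok] using hk
    apply List.mem_append_left
    apply List.mem_append_right
    exact List.mem_map.mpr ⟨(x, y, z), hs, rfl⟩
  | rack u y v y' =>
    refine ⟨fun _ => ?_, fun h => absurd h (by simp [Tag.word])⟩
    apply List.mem_append_right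
    refine List.mem_map.mpr ⟨(u, y, v, y'), ?_, rfl⟩
    rw [hr]
    apply List.mem_append_right
    exact List.mem_filterMap.mpr ⟨_, ht, rfl⟩
  | sub i =>
    refine ⟨fun h => absurd h (by simp [Tag.word]), fun _ => ?_⟩
    have hi : i < 6 := by simpa [Tag.ok] using hk
    show [i] ∈ subL
    unfold subL
    interval_cases i <;> simp

end Cfsg.Agent.Lib.H28.TitsM
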