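import Cfsg.Agent.Lib.H28.TitsM.Conc.Gen
import Cfsg.Agent.Lib.H28.TitsM.Bound
import Cfsg.Agent.Lib.H28.StemTools2
import Cfsg.Agent.Lib.H2.PSLSimple
import Cfsg.Agent.Lib.H20.Schur
import Cfsg.Agent.S2086

set_option autoImplicit false
set_option maxRecDepth 100000

/-!
# Stem extensions of the Tits group by a group of order three (helper28)

The first six generators generate a subgroup `W ≅ SL₃(3) = PSL₃(3)` of index `3200`, prime to three, whose Schur
multiplier is trivial (S2086); transfer to `W` shows that a stem extension of the Tits group has no element of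
order three in its kernel.
-/

namespace Cfsg.Agent.Lib.H28.TitsM

open Cfsg.Agent.Lib.H3.Tits Cfsg.Agent.Lib.H1.StSL Matrix

abbrev SL33 : Type := Matrix.SpecialLinearGroup (Fin 3) (ZMod 3)
abbrev PSL33 : Type := Matrix.ProjectiveSpecialLinearGroup (Fin 3) (ZMod 3)

theorem center_SL33 : Subgroup.center SL33 = ⊥ := by
  rw [eq_bot_iff]
  intro A hA
  rw [Matrix.SpecialLinearGroup.mem_center_iff] at hA
  obtain ⟨r, hr, hA⟩ := hA
  have h3 : r ^ 3 = r := by
    have := FiniteField.pow_card r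
    rwa [ZMod.card] at this
  rw [Fintype.card_fin, h3] at hr
  rw [Subgroup.mem_bot]
  apply Subtype.ext
  rw [← hA, hr]
  simp

/-- `SL₃(3) ≅ PSL₃(3)` -/
noncomputable def slEquivPSL : SL33 ≃* PSL33 :=
  (QuotientGroup.quotientBot (G := SL33)).symm.trans (QuotientGroup.quotientMulEquivOfEq center_SL33.symm)

theorem St_simple : IsSimpleGroup (St (ZMod 3) 3) := by
  obtain ⟨e₁, -⟩ := exists_mulEquiv (K := ZMod 3) (n := 3) le_rfl
  have hs : IsSimpleGroup PSL33 := Cfsg.Agent.Lib.H2.PSL_simple_of_three_le (by simp)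
  let e : PSL33 ≃* St (ZMod 3) 3 := slEquivPSL.symm.trans e₁.symm
  have : Nontrivial (St (ZMod 3) 3) := e.toEquiv.symm.nontrivial
  exact IsSimpleGroup.isSimpleGroup_of_surjective e.toMonoidHom e.surjective

theorem St_perfect : commutator (St (ZMod 3) 3) = ⊤ := by
  obtain ⟨e₁, -⟩ := exists_mulEquiv (K := ZMod 3) (n := 3) le_rfl
  have h1 : commutator SL33 = ⊤ := Cfsg.Agent.Lib.H2.SL_commutator_eq_top (by simp)
  have h2 : Subgroup.map e₁.symm.toMonoidHom (⊤ : Subgroup SL33) = ⊤ :=
    Subgroup.map_top_of_surjective _ e₁.symm.surjective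
  rw [commutator_def] at h1 ⊢
  rw [← h2, ← Subgroup.map_commutator, h1]

/-- the subgroup generated by the first six generators -/
def W : Subgroup ↥T := Subgroup.closure {xT 0, xT 1, xT 2, xT 3, xT 4, xT 5}

theorem exists_hom_W : ∃ f : St (ZMod 3) 3 →* ↥T, f.range = W ∧ Function.Injective f := by
  obtain ⟨f, hf⟩ := (st3_of_rels xT rels_xT).exists_hom
  refine ⟨f, hf, ?_⟩
  have := St_simple
  rw [← MonoidHom.ker_eq_bot_iff]
  rcases (MonoidHom.normal_ker f).eq_bot_or_eq_top with h | h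
  · exact h
  · exfalso
    have h0 : xT 0 ∈ f.range := by
      rw [hf]
      exact Subgroup.subset_closure (by simp)
    obtain ⟨s, hs⟩ := h0
    have hs' : s ∈ f.ker := by rw [h]; exact Subgroup.mem_top s
    rw [MonoidHom.mem_ker, hs] at hs'
    exact xT_zero_ne_one hs'

theorem W_perfect : ⁅W, W⁆ = W := by
  obtain ⟨f, hf, -⟩ := exists_hom_W
  have h1 := St_perfect
  rw [commutator_def] at h1
  rw [← hf, MonoidHom.range_eq_map, ← Subgroup.map_commutator, h1]

theorem card_W : Nat.card ↥W = 5616 := by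
  obtain ⟨f, hf, hinj⟩ := exists_hom_W
  rw [← hf, ← card_St3.2]
  exact (Nat.card_congr (MonoidHom.ofInjective hinj).toEquiv).symm

theorem W_index : W.index = 3200 := by
  have h := Subgroup.card_mul_index W
  have hT : Nat.card ↥T = 17971200 := card_T
  rw [card_W, hT] at h
  omega

theorem W_mult (E : Type) [Group E] [Finite E] (τ : E →* ↥W) (hτ : Cfsg.IsStemExtension τ) : τ.ker = ⊥ := by
  obtain ⟨f, hf, hinj⟩ := exists_hom_W
  obtain ⟨e₁, -⟩ := exists_mulEquiv (K := ZMod 3) (n := 3) le_rfl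
  let ι : ↥W ≃* PSL33 :=
    ((MulEquiv.subgroupCongr hf.symm).trans (MonoidHom.ofInjective hinj).symm).trans (e₁.trans slEquivPSL)
  let τ' : E →* PSL33 := ι.toMonoidHom.comp τ
  have hker : τ'.ker = τ.ker := by
    ext x
    rw [MonoidHom.mem_ker, MonoidHom.mem_ker]
    show ι (τ x) = 1 ↔ τ x = 1
    exact map_eq_one_iff ι ι.injective
  have hτ' : Cfsg.IsStemExtension τ' := by
    obtain ⟨h1, h2, h3⟩ := hτ
    refine ⟨ι.surjective.comp h1, ?_, ?_⟩
    · rw [hker]; exact h2
    · rw [hker]; exact h3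
  have hF : Fintype.card (ZMod 3) = 3 := ZMod.card 3
  have hm := Cfsg.Agent.S2086.result hF 3 (by norm_num) (by norm_num) (by
    simp only [Set.mem_insert_iff, Set.mem_singleton_iff, Prod.mk.injEq]
    omega)
  have hg : Nat.gcd 3 (3 - 1) = 1 := by norm_num
  rw [hg] at hm
  have := Cfsg.Agent.Lib.H20.ker_eq_bot_of_hasCyclicSchurMultiplier_one hm E τ' hτ'
  rw [← hker]
  exact this

/-- no element of order three in the kernel of a stem extension of the Tits group -/
theorem eq_one_of_pow_three {Γ : Type} [Group Γ] [Finite Γ] (σ : Γ →* ↥T) (hσ : Cfsg.IsStemExtension σ)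
    {k : Γ} (hk : k ∈ σ.ker) (h3 : k ^ 3 = 1) : k = 1 := by
  apply Cfsg.Agent.Lib.H28.StemTools.eq_one_of_subgroup_trivial σ hσ W W_perfect W_mult hk h3
  rw [W_index]
  norm_num

end Cfsg.Agent.Lib.H28.TitsM
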